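import Cfsg.Agent.Fusion.Transfer.Tau
import Cfsg.Agent.Fusion.NormalCriteria

/-!
Consequences of the transfer for focal subgroups.
-/

set_option autoImplicit false

namespace Cfsg.Lib.Fusion

open Cfsg Cfsg.FusionSystem
open scoped commutatorElement

variable {Ω : Type*} [Group Ω] {S : Subgroup Ω} {F : FusionSystem S} {p : ℕ}

theorem focalSubgroup_le_iff {M : Subgroup Ω} :
    F.focalSubgroup ≤ M ↔ ∀ (P : Subgroup Ω) (f : Ω → Ω), IsMap F P f → ∀ x ∈ P, x⁻¹ * f x ∈ M := by
  rw [FusionSystem.focalSubgroup, Subgroup.closure_le]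
  constructor
  · intro h P f hf x hx
    obtain ⟨φ, hφ, e⟩ := hf
    exact h ⟨P, φ, ⟨x, hx⟩, hφ, by rw [e]⟩
  · rintro h _ ⟨P, φ, x, hφ, rfl⟩
    have := h P _ (isMap_of_mem hφ) x x.2
    rwa [toFun'_apply] at this

theorem mem_focalSubgroup {P : Subgroup Ω} {f : Ω → Ω} (hf : IsMap F P f) {x : Ω} (hx : x ∈ P) :
    x⁻¹ * f x ∈ F.focalSubgroup :=
  focalSubgroup_le_iff.mp le_rfl P f hf x hx

theorem focalSubgroup_le (F : FusionSystem S) : F.focalSubgroup ≤ S :=
  focalSubgroup_le_iff.mpr fun _ _ hf _ hx => S.mul_mem (S.inv_mem (hf.le hx)) (hf.mem_S hx)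

theorem commutator_le_focalSubgroup : ⁅S, S⁆ ≤ F.focalSubgroup := by
  refine Subgroup.commutator_le.mpr fun g hg h hh => ?_
  have := mem_focalSubgroup (F := F) (isMap_conj le_rfl (S.inv_mem hg))
    (S.inv_mem (S.mul_mem (S.mul_mem hg hh) (S.inv_mem hg)))
  rw [commutatorElement_def]
  convert this using 1
  group

/-- A stable homomorphism kills the focal subgroup. -/
theorem focalSubgroup_le_ker {A : Type*} [CommGroup A] {τ : S →* A}
    (hτ : ∀ (P : Subgroup Ω) (f : Ω → Ω) (hf : IsMap F P f) (x : Ω) (hx : x ∈ P),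
      τ ⟨f x, hf.mem_S hx⟩ = τ ⟨x, hf.le hx⟩) :
    F.focalSubgroup ≤ τ.ker.map S.subtype :=
  focalSubgroup_le_iff.mpr fun P f hf x hx =>
    ⟨⟨x, hf.le hx⟩⁻¹ * ⟨f x, hf.mem_S hx⟩, by
      show τ _ = 1
      rw [map_mul, map_inv, hτ P f hf x hx, inv_mul_cancel], rfl⟩

/-- The focal elements in a normal subgroup `V` of the system lie in any normal subgroup `M` of `S` containing
`S'` and the commutators of `V` with its automizer. -/
theorem inf_focalSubgroup_le [Finite S] [Fact p.Prime] (hS : IsPGroup p S) (hF : F.IsSaturated p)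
    {V : Subgroup Ω} (hV : F.IsNormal V) {M : Subgroup Ω} (hMS : ⁅S, S⁆ ≤ M)
    (hVM : ∀ f, IsMap F V f → img V f = V → ∀ v ∈ V, v⁻¹ * f v ∈ M) :
    V ⊓ F.focalSubgroup ≤ M := by
  let N : Subgroup S := M.subgroupOf S
  have hN : commutator S ≤ N := fun x hx => hMS (by
    rw [← Subgroup.map_subtype_commutator]
    exact ⟨x, hx, rfl⟩)
  haveI hnor : N.Normal := Subgroup.Normal.of_commutator_le (G := S) hN
  letI : CommGroup (S ⧸ N) :=
    { (inferInstance : Group (S ⧸ N)) with
      mul_comm := fun a b => by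
        induction a using QuotientGroup.induction_on with
        | H x =>
          induction b using QuotientGroup.induction_on with
          | H y =>
            refine QuotientGroup.eq.mpr ?_
            have : ⁅y⁻¹, x⁻¹⁆ ∈ N := hN (Subgroup.commutator_mem_commutator (Subgroup.mem_top _)
              (Subgroup.mem_top _))
            simpa [commutatorElement_def, mul_assoc] using this }
  have hfix : Transfer.Fixed F V (QuotientGroup.mk' N) := by
    refine ⟨hV.1, fun P f hf => ?_⟩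
    obtain ⟨k, hk, hkf, hki⟩ := extend_of_isNormal hV hf
    refine ⟨k, hk, hkf, hki, fun z hz h h' => ?_⟩
    refine (QuotientGroup.eq.mpr ?_).symm
    exact hVM k (hk.mono le_sup_right) hki z hz
  obtain ⟨τ, hτ, m, hm, hτV, -⟩ := Transfer.exists_transfer_aux.{_, _, 0} hS hF _ hfix
  rintro z ⟨hzV, hz⟩
  obtain ⟨s, hs, rfl⟩ := focalSubgroup_le_ker hτ hz
  have h1 : (QuotientGroup.mk' N s) ^ m = 1 := (hτV s hzV).symm.trans hs
  obtain ⟨k, hk⟩ := (hS.to_quotient N) (QuotientGroup.mk' N s)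
  have h2 : QuotientGroup.mk' N s = 1 :=
    orderOf_eq_one_iff.mp (Nat.eq_one_of_dvd_coprimes
      ((((Fact.out : p.Prime).coprime_iff_not_dvd).mpr hm).pow_left k)
      (orderOf_dvd_of_pow_eq_one hk) (orderOf_dvd_of_pow_eq_one h1))
  exact (QuotientGroup.eq_one_iff (N := N) s).mp h2

end Cfsg.Lib.Fusion
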