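import Mathlib

/-!
Monomial sets of a group, as lists of induced one-dimensional monomial pieces, and their marks.
-/

set_option autoImplicit false

namespace Cfsg.Lib.Fusion.Transfer

open MulAction

variable {Ω : Type*} [Group Ω] {S : Subgroup Ω} {A : Type*} [CommGroup A]

/-- A transitive monomial set: the cosets of `R` twisted by `ν`. -/
structure Comp (S : Subgroup Ω) (A : Type*) [CommGroup A] where
  R : Subgroup S
  ν : R →* A

open Classical in
/-- The value of `x` at a coset it fixes. -/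
noncomputable def cval (C : Comp S A) (x : S) (c : S ⧸ C.R) : A :=
  if h : c.out⁻¹ * x * c.out ∈ C.R then C.ν ⟨_, h⟩ else 1

variable {C : Comp S A}

theorem smul_mk_eq_iff {x s : S} :
    x • (QuotientGroup.mk s : S ⧸ C.R) = QuotientGroup.mk s ↔ s⁻¹ * x * s ∈ C.R := by
  show (QuotientGroup.mk (x * s) : S ⧸ C.R) = QuotientGroup.mk s ↔ _
  rw [eq_comm, QuotientGroup.eq, mul_assoc]

theorem cval_eq {x s : S} (h : s⁻¹ * x * s ∈ C.R) :
    cval C x (QuotientGroup.mk s) = C.ν ⟨s⁻¹ * x * s, h⟩ := by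
  set c : S ⧸ C.R := QuotientGroup.mk s
  have hfix : c.out⁻¹ * x * c.out ∈ C.R := by
    rw [← smul_mk_eq_iff, QuotientGroup.out_eq']
    exact smul_mk_eq_iff.mpr h
  rw [cval, dif_pos hfix]
  have hr : s⁻¹ * c.out ∈ C.R := QuotientGroup.eq.mp (QuotientGroup.out_eq' c).symm
  have e : (⟨c.out⁻¹ * x * c.out, hfix⟩ : C.R) =
      (⟨_, hr⟩ : C.R)⁻¹ * ⟨s⁻¹ * x * s, h⟩ * ⟨_, hr⟩ := Subtype.ext (by simp [mul_assoc])
  rw [e, map_mul, map_mul, map_inv, inv_mul_cancel_comm]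

theorem cval_mul {x y : S} {c : S ⧸ C.R} (hx : x • c = c) (hy : y • c = c) :
    cval C (x * y) c = cval C x c * cval C y c := by
  induction c using QuotientGroup.induction_on with
  | H s =>
    have h1 := smul_mk_eq_iff.mp hx
    have h2 := smul_mk_eq_iff.mp hy
    have h3 : s⁻¹ * (x * y) * s ∈ C.R := by
      have := C.R.mul_mem h1 h2
      convert this using 1
      group
    rw [cval_eq h1, cval_eq h2, cval_eq h3, ← map_mul]
    congr 1
    exact Subtype.ext (by simp [mul_assoc])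

theorem cval_one (c : S ⧸ C.R) : cval C 1 c = 1 := by
  have h := cval_mul (x := 1) (y := 1) (one_smul S c) (one_smul S c)
  rw [one_mul] at h
  exact left_eq_mul.mp h

theorem cval_pow {x : S} {c : S ⧸ C.R} (hx : x • c = c) (n : ℕ) : cval C (x ^ n) c = cval C x c ^ n := by
  induction n with
  | zero => rw [pow_zero, pow_zero, cval_one]
  | succ n ih =>
    rw [pow_succ, pow_succ, cval_mul ?_ hx, ih]
    exact MulAction.mem_stabilizer_iff.mp (Subgroup.pow_mem _ (MulAction.mem_stabilizer_iff.mpr hx) n)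

theorem smul_conj_fix {x u : S} {c : S ⧸ C.R} (hx : x • c = c) :
    (u * x * u⁻¹) • (u • c) = u • c := by
  rw [← mul_smul, inv_mul_cancel_right, mul_smul, hx]

theorem cval_smul {x u : S} {c : S ⧸ C.R} (hx : x • c = c) :
    cval C (u * x * u⁻¹) (u • c) = cval C x c := by
  induction c using QuotientGroup.induction_on with
  | H s =>
    have h1 := smul_mk_eq_iff.mp hx
    show cval C (u * x * u⁻¹) (QuotientGroup.mk (u * s)) = _
    have h2 : (u * s)⁻¹ * (u * x * u⁻¹) * (u * s) ∈ C.R := by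
      convert h1 using 1
      group
    rw [cval_eq h1, cval_eq h2]
    congr 1
    exact Subtype.ext (by group)

/-- The coset `c` is fixed by `P` with values `μ`. -/
def Fix (C : Comp S A) (P : Subgroup Ω) (μ : P →* A) (c : S ⧸ C.R) : Prop :=
  ∀ (x : S) (h : (x : Ω) ∈ P), x • c = c ∧ cval C x c = μ ⟨x, h⟩

/-- The mark of a component. -/
noncomputable def mk' (C : Comp S A) (P : Subgroup Ω) (μ : P →* A) : ℕ :=
  Nat.card {c : S ⧸ C.R // Fix C P μ c}

/-- The mark of a monomial set. -/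
noncomputable def mark (L : List (Comp S A)) (P : Subgroup Ω) (μ : P →* A) : ℕ :=
  (L.map fun C => mk' C P μ).sum

theorem mark_append (L L' : List (Comp S A)) (P : Subgroup Ω) (μ : P →* A) :
    mark (L ++ L') P μ = mark L P μ + mark L' P μ := by
  simp [mark]

theorem mark_cons (C : Comp S A) (L : List (Comp S A)) (P : Subgroup Ω) (μ : P →* A) :
    mark (C :: L) P μ = mk' C P μ + mark L P μ := by
  simp [mark]

/-- Sums over a finset commute with sums over a list. -/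
theorem list_sum_finset {α β : Type*} (L : List α) (s : Finset β) (f : α → β → ℕ) :
    (L.map fun a => ∑ b ∈ s, f a b).sum = ∑ b ∈ s, (L.map fun a => f a b).sum := by
  induction L with
  | nil => simp
  | cons a L ih => simp [ih, Finset.sum_add_distrib]

/-- Cosets fixed by a subgroup carry a homomorphism. -/
theorem exists_fix {K : Subgroup Ω} (hK : K ≤ S) {c : S ⧸ C.R}
    (h : ∀ x : S, (x : Ω) ∈ K → x • c = c) : ∃ μ : K →* A, Fix C K μ c := by
  refine ⟨MonoidHom.mk' (fun x => cval C (Subgroup.inclusion hK x) c) fun a b => ?_, fun x hx => ⟨h x hx, rfl⟩⟩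
  exact cval_mul (h (Subgroup.inclusion hK a) a.2) (h (Subgroup.inclusion hK b) b.2)

theorem fix_unique {K : Subgroup Ω} (hK : K ≤ S) {μ μ' : K →* A} {c : S ⧸ C.R}
    (h : Fix C K μ c) (h' : Fix C K μ' c) : μ = μ' :=
  MonoidHom.ext fun x => ((h ⟨x, hK x.2⟩ x.2).2.symm.trans (h' ⟨x, hK x.2⟩ x.2).2)

/-- Cosets fixed by `K` with a condition on the values. -/
theorem card_fix_where [Finite S] [Finite A] {K : Subgroup Ω} (hK : K ≤ S) (Q : (K →* A) → Prop)
    [DecidablePred Q] [Fintype (K →* A)] :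
    Nat.card {c : S ⧸ C.R // ∃ μ, Q μ ∧ Fix C K μ c} = ∑ μ ∈ Finset.univ.filter Q, mk' C K μ := by
  classical
  haveI : Fintype (S ⧸ C.R) := Fintype.ofFinite _
  have e : ∀ μ, mk' C K μ = (Finset.univ.filter fun c : S ⧸ C.R => Fix C K μ c).card := fun μ => by
    rw [mk', Nat.card_eq_fintype_card, Fintype.card_subtype]
  simp only [e]
  rw [Nat.card_eq_fintype_card, Fintype.card_subtype, ← Finset.card_biUnion]
  · congr 1
    ext c
    simp
  · intro μ _ μ' _ hne
    rw [Function.onFun, Finset.disjoint_left]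
    intro c hc hc'
    simp only [Finset.mem_filter, Finset.mem_univ, true_and] at hc hc'
    exact hne (fix_unique hK hc hc')

/-- Conjugation by an element of `S` preserves marks. -/
theorem mk'_conj {P Q : Subgroup Ω} {μ : P →* A} {ν : Q →* A} (u : S)
    (hPQ : ∀ x : S, (x : Ω) ∈ P ↔ ((u * x * u⁻¹ : S) : Ω) ∈ Q)
    (hval : ∀ (x : S) (h : (x : Ω) ∈ P), ν ⟨((u * x * u⁻¹ : S) : Ω), (hPQ x).mp h⟩ = μ ⟨x, h⟩)
    {c : S ⧸ C.R} : Fix C P μ c ↔ Fix C Q ν (u • c) := by
  constructor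
  · intro h y hy
    have hxy : u * (u⁻¹ * y * u) * u⁻¹ = y := by group
    have hx : ((u⁻¹ * y * u : S) : Ω) ∈ P := (hPQ _).mpr (hxy.symm ▸ hy)
    obtain ⟨h1, h2⟩ := h _ hx
    have h3 := smul_conj_fix (u := u) h1
    have h4 := cval_smul (u := u) h1
    rw [hxy] at h3 h4
    refine ⟨h3, h4.trans (h2.trans ?_)⟩
    rw [← hval _ hx]
    exact congrArg ν (Subtype.ext (show ((u * (u⁻¹ * y * u) * u⁻¹ : S) : Ω) = (y : Ω) by rw [hxy]))
  · intro h x hx
    obtain ⟨h1, h2⟩ := h _ ((hPQ x).mp hx)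
    have h3 : x • c = c := by
      rwa [← mul_smul, inv_mul_cancel_right, mul_smul, smul_left_cancel_iff] at h1
    exact ⟨h3, by rw [← hval x hx, ← h2, cval_smul h3]⟩

theorem mark_conj {L : List (Comp S A)} {P Q : Subgroup Ω} {μ : P →* A} {ν : Q →* A} (u : S)
    (hPQ : ∀ x : S, (x : Ω) ∈ P ↔ ((u * x * u⁻¹ : S) : Ω) ∈ Q)
    (hval : ∀ (x : S) (h : (x : Ω) ∈ P), ν ⟨((u * x * u⁻¹ : S) : Ω), (hPQ x).mp h⟩ = μ ⟨x, h⟩) :
    mark L P μ = mark L Q ν := by
  refine congrArg List.sum (List.map_congr_left fun C _ => ?_)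
  refine Nat.card_congr (Equiv.subtypeEquiv (MulAction.toPerm u) fun c => ?_)
  exact mk'_conj u hPQ hval

/-! ### Burnside's congruence -/

/-- The elements of `S` stabilising the pair. -/
def pairStab (S P : Subgroup Ω) (μ : P →* A) : Subgroup S where
  carrier := {u | ∃ hu : ∀ x : Ω, x ∈ P ↔ (u : Ω) * x * (u : Ω)⁻¹ ∈ P,
    ∀ x : P, μ ⟨(u : Ω) * x * (u : Ω)⁻¹, (hu x).mp x.2⟩ = μ x}
  one_mem' := ⟨fun x => by simp, fun x => congrArg μ (Subtype.ext (by simp))⟩
  mul_mem' := by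
    rintro a b ⟨ha, ha'⟩ ⟨hb, hb'⟩
    refine ⟨fun x => (hb x).trans ((ha _).trans (by simp [mul_assoc])), fun x => ?_⟩
    rw [← hb' x, ← ha' ⟨(b : Ω) * x * (b : Ω)⁻¹, (hb x).mp x.2⟩]
    exact congrArg μ (Subtype.ext (by simp [mul_assoc]))
  inv_mem' := by
    rintro a ⟨ha, ha'⟩
    refine ⟨fun x => ?_, fun x => ?_⟩
    · rw [ha (((a⁻¹ : S) : Ω) * x * ((a⁻¹ : S) : Ω)⁻¹)]
      simp [mul_assoc]
    · rw [← ha' ⟨((a⁻¹ : S) : Ω) * x * ((a⁻¹ : S) : Ω)⁻¹, _⟩]
      exact congrArg μ (Subtype.ext (by simp [mul_assoc]))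

/-- Fixed cosets that are also fixed by `w`. -/
noncomputable def extCount (C : Comp S A) (P : Subgroup Ω) (μ : P →* A) (w : S) : ℕ :=
  Nat.card {c : S ⧸ C.R // Fix C P μ c ∧ w • c = c}

theorem dvd_sum_extCount [Finite S] (P : Subgroup Ω) (μ : P →* A) (U : Subgroup S)
    (hU : U ≤ pairStab S P μ) [Fintype U] : Nat.card U ∣ ∑ u : U, extCount C P μ (u : S) := by
  classical
  have hmove : ∀ (u : U) (c : S ⧸ C.R), Fix C P μ c → Fix C P μ ((u : S) • c) := by
    intro u c hc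
    obtain ⟨hu, hu'⟩ := hU u.2
    exact (mk'_conj (u : S) (fun x => hu (x : Ω)) (fun x h => hu' ⟨x, h⟩)).mp hc
  letI : MulAction U {c : S ⧸ C.R // Fix C P μ c} :=
    { smul := fun u c => ⟨(u : S) • c.1, hmove u c.1 c.2⟩
      one_smul := fun c => Subtype.ext (one_smul S c.1)
      mul_smul := fun a b c => Subtype.ext (mul_smul (a : S) (b : S) c.1) }
  haveI : Fintype {c : S ⧸ C.R // Fix C P μ c} := Fintype.ofFinite _
  haveI : ∀ u : U, Fintype (fixedBy {c : S ⧸ C.R // Fix C P μ c} u) := fun _ => Fintype.ofFinite _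
  haveI : Fintype (orbitRel.Quotient U {c : S ⧸ C.R // Fix C P μ c}) := Fintype.ofFinite _
  have h := sum_card_fixedBy_eq_card_orbits_mul_card_group U {c : S ⧸ C.R // Fix C P μ c}
  have e : ∀ u : U, extCount C P μ (u : S) = Fintype.card (fixedBy {c : S ⧸ C.R // Fix C P μ c} u) := by
    intro u
    rw [extCount, ← Nat.card_eq_fintype_card]
    exact Nat.card_congr
      { toFun := fun c => ⟨⟨c.1, c.2.1⟩, Subtype.ext c.2.2⟩
        invFun := fun c => ⟨c.1.1, c.1.2, congrArg Subtype.val c.2⟩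
        left_inv := fun _ => rfl
        right_inv := fun _ => rfl }
  simp only [e, h, Nat.card_eq_fintype_card]
  exact dvd_mul_left _ _

theorem extCount_of_mem {P : Subgroup Ω} {μ : P →* A} {w : S} (hw : (w : Ω) ∈ P) :
    extCount C P μ w = mk' C P μ :=
  Nat.card_congr (Equiv.subtypeEquivRight fun _ => ⟨fun h => h.1, fun h => ⟨h, (h w hw).1⟩⟩)

/-- Extension of `μ` to `K`. -/
def Extends' {P K : Subgroup Ω} (hPK : P ≤ K) (μ : P →* A) (μ' : K →* A) : Prop :=
  ∀ x : P, μ' (Subgroup.inclusion hPK x) = μ x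

theorem fix_iff_sup {P : Subgroup Ω} (hP : P ≤ S) {μ : P →* A} (w : S) {c : S ⧸ C.R} :
    (Fix C P μ c ∧ w • c = c) ↔ ∃ μ' : (P ⊔ Subgroup.zpowers (w : Ω) : Subgroup Ω) →* A,
      Extends' le_sup_left μ μ' ∧ Fix C _ μ' c := by
  constructor
  · rintro ⟨h, hw⟩
    have hKS : P ⊔ Subgroup.zpowers (w : Ω) ≤ S := sup_le hP (Subgroup.zpowers_le.mpr w.2)
    have hle : P ⊔ Subgroup.zpowers (w : Ω) ≤ (MulAction.stabilizer S c).map S.subtype := by
      refine sup_le (fun x hx => ⟨⟨x, hP hx⟩, (h ⟨x, hP hx⟩ hx).1, rfl⟩) (Subgroup.zpowers_le.mpr ?_)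
      exact ⟨w, hw, rfl⟩
    obtain ⟨μ', hμ'⟩ := exists_fix hKS (c := c) fun x hx => by
      obtain ⟨y, hy, e⟩ := hle hx
      rw [← (Subtype.ext e : y = x)]
      exact hy
    exact ⟨μ', fun x => ((hμ' ⟨x, hP x.2⟩ (Subgroup.mem_sup_left x.2)).2).symm.trans
      (h ⟨x, hP x.2⟩ x.2).2, hμ'⟩
  · rintro ⟨μ', he, h⟩
    refine ⟨fun x hx => ⟨(h x (Subgroup.mem_sup_left hx)).1, ?_⟩,
      (h w (Subgroup.mem_sup_right (Subgroup.mem_zpowers _))).1⟩
    exact (h x (Subgroup.mem_sup_left hx)).2.trans (he ⟨x, hx⟩)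

end Cfsg.Lib.Fusion.Transfer
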