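import Cfsg.Agent.Fusion.Transfer.Comp
import Cfsg.Agent.Fusion.Saturation
import Cfsg.Agent.Fusion.CenterControl

/-!
Pairs (subgroup of `S`, homomorphism into `A`) up to conjugacy in a fusion system, and the congruence between
the marks of conjugate pairs.
-/

set_option autoImplicit false

namespace Cfsg.Lib.Fusion.Transfer

open Cfsg Cfsg.FusionSystem

variable {Ω : Type*} [Group Ω] {S : Subgroup Ω} {F : FusionSystem S} {A : Type*} [CommGroup A]
  {Z : Subgroup Ω} {μ₀ : S →* A} {p : ℕ}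

/-- A subgroup of `S` with a homomorphism into `A`. -/
structure Pair (S : Subgroup Ω) (A : Type*) [CommGroup A] where
  P : Subgroup Ω
  le : P ≤ S
  μ : P →* A

theorem pair_ext {q r : Pair S A} (hP : q.P = r.P)
    (hμ : ∀ (x : Ω) (h : x ∈ q.P) (h' : x ∈ r.P), q.μ ⟨x, h⟩ = r.μ ⟨x, h'⟩) : q = r := by
  obtain ⟨P, le, μ⟩ := q
  obtain ⟨P', le', μ'⟩ := r
  dsimp only at hP hμ
  subst hP
  congr 1
  exact MonoidHom.ext fun x => hμ x x.2 x.2

theorem finite_hom {K : Type*} [Group K] [Finite K] [Finite A] : Finite (K →* A) :=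
  Finite.of_injective (fun f => (f : K → A)) DFunLike.coe_injective

instance finite_pair [Finite S] [Finite A] : Finite (Pair S A) := by
  classical
  refine Finite.of_injective (fun q : Pair S A =>
    ((q.P.subgroupOf S, fun s : S => if h : (s : Ω) ∈ q.P then q.μ ⟨s, h⟩ else 1) :
      Subgroup S × (S → A))) fun q r h => ?_
  obtain ⟨h1, h2⟩ := Prod.ext_iff.mp h
  have hP : q.P = r.P := by
    rw [← Subgroup.map_subgroupOf_eq_of_le q.le, ← Subgroup.map_subgroupOf_eq_of_le r.le]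
    exact congrArg (Subgroup.map S.subtype) h1
  refine pair_ext hP fun x hx hx' => ?_
  have h3 := congrFun h2 ⟨x, q.le hx⟩
  simpa [hx, hx'] using h3

/-- The mark of a monomial set at a pair. -/
noncomputable abbrev mq (L : List (Comp S A)) (q : Pair S A) : ℕ := mark L q.P q.μ

/-- The pair contains `Z` and agrees with `μ₀` on it. -/
def Good (Z : Subgroup Ω) (μ₀ : S →* A) (q : Pair S A) : Prop :=
  Z ≤ q.P ∧ ∀ x : q.P, (x : Ω) ∈ Z → q.μ x = μ₀ (Subgroup.inclusion q.le x)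

/-- Conjugacy of pairs in the system. -/
def PRel (F : FusionSystem S) (q r : Pair S A) : Prop :=
  ∃ f, IsMap F q.P f ∧ img q.P f = r.P ∧
    ∀ (x : Ω) (h : x ∈ q.P) (h' : f x ∈ r.P), r.μ ⟨f x, h'⟩ = q.μ ⟨x, h⟩

theorem PRel.refl (q : Pair S A) : PRel F q q :=
  ⟨id, isMap_id q.le, img_id _, fun _ _ _ => rfl⟩

theorem PRel.symm {q r : Pair S A} (h : PRel F q r) : PRel F r q := by
  obtain ⟨f, hf, hi, hμ⟩ := h
  obtain ⟨g, hg, hgi, hl, hr⟩ := hf.exists_inv
  rw [hi] at hg hgi hr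
  refine ⟨g, hg, hgi, fun y hy hy' => ?_⟩
  have h1 : f (g y) ∈ r.P := (hr y hy).symm ▸ hy
  rw [← hμ (g y) hy' h1]
  exact congrArg r.μ (Subtype.ext (hr y hy))

theorem PRel.trans {q r t : Pair S A} (h : PRel F q r) (h' : PRel F r t) : PRel F q t := by
  obtain ⟨f, hf, hi, hμ⟩ := h
  obtain ⟨g, hg, hgi, hν⟩ := h'
  rw [← hi] at hg hgi
  refine ⟨g ∘ f, hf.comp hg fun x hx => IsMap.apply_mem_img hx, (img_comp hf hg).trans hgi,
    fun x hx hx' => ?_⟩
  have hfx : f x ∈ r.P := hi ▸ IsMap.apply_mem_img hx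
  exact (hν (f x) hfx hx').trans (hμ x hx hfx)

theorem PRel.card_eq {q r : Pair S A} (h : PRel F q r) : Nat.card r.P = Nat.card q.P := by
  obtain ⟨f, hf, hi, -⟩ := h
  rw [← hi]
  exact hf.card_img

/-- The maps of the system extend to `Z`, normalising it and preserving `μ₀` on it. -/
def Fixed (F : FusionSystem S) (Z : Subgroup Ω) (μ₀ : S →* A) : Prop :=
  Z ≤ S ∧ ∀ (P : Subgroup Ω) (f : Ω → Ω), IsMap F P f → ∃ k, IsMap F (P ⊔ Z) k ∧
    (∀ x ∈ P, k x = f x) ∧ img Z k = Z ∧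
      ∀ z ∈ Z, ∀ (h : z ∈ S) (h' : k z ∈ S), μ₀ ⟨k z, h'⟩ = μ₀ ⟨z, h⟩

theorem fixed_of_central (hZ : F.IsCentral Z) (μ₀ : S →* A) : Fixed F Z μ₀ := by
  refine ⟨hZ.1, fun P f hf => ?_⟩
  obtain ⟨k, hk, hkf, hkZ⟩ := (isCentral_iff.mp hZ).2 P f hf
  exact ⟨k, hk, hkf, (img_congr hkZ).trans (img_id Z), fun z hz h h' =>
    congrArg μ₀ (Subtype.ext (hkZ z hz))⟩

theorem Fixed.img_eq (hZ : Fixed F Z μ₀) {P : Subgroup Ω} {f : Ω → Ω} (hf : IsMap F P f)
    (hZP : Z ≤ P) : img Z f = Z := by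
  obtain ⟨k, -, hkf, hki, -⟩ := hZ.2 P f hf
  rwa [← img_congr fun z hz => hkf z (hZP hz)]

theorem Fixed.apply (hZ : Fixed F Z μ₀) {P : Subgroup Ω} {f : Ω → Ω} (hf : IsMap F P f)
    {z : Ω} (hz : z ∈ Z) (hzP : z ∈ P) (h : z ∈ S) (h' : f z ∈ S) :
    μ₀ ⟨f z, h'⟩ = μ₀ ⟨z, h⟩ := by
  obtain ⟨k, -, hkf, -, hkμ⟩ := hZ.2 P f hf
  rw [← hkμ z hz h ((hkf z hzP).symm ▸ h')]
  exact congrArg μ₀ (Subtype.ext (hkf z hzP).symm)

theorem Fixed.conj_mem (hZ : Fixed F Z μ₀) {s z : Ω} (hs : s ∈ S) (hz : z ∈ Z) :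
    s * z * s⁻¹ ∈ Z := by
  rw [← SetLike.mem_coe]
  have h := hZ.img_eq (isMap_conj le_rfl hs) hZ.1
  exact h.le (IsMap.apply_mem_img hz)

theorem PRel.good (hZ : Fixed F Z μ₀) {q r : Pair S A} (h : PRel F q r) (hq : Good Z μ₀ q) :
    Good Z μ₀ r := by
  obtain ⟨f, hf, hi, hμ⟩ := h
  have hfZ := hZ.img_eq hf hq.1
  refine ⟨fun z hz => hi ▸ img_mono hq.1 f (hfZ.ge hz), fun y hy => ?_⟩
  obtain ⟨x, hx, hxy⟩ := (hf.mono hq.1).mem_img.mp (hfZ.ge hy)
  have h' : f x ∈ r.P := hxy.symm ▸ y.2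
  rw [show y = ⟨f x, h'⟩ from Subtype.ext hxy.symm, hμ x (hq.1 hx) h', hq.2 ⟨x, hq.1 hx⟩ hx]
  exact (hZ.apply hf hx (hq.1 hx) (hZ.1 hx) (r.le h')).symm

/-- The homomorphism of the pair comes from `μ₀` along a map of the system. -/
def PLift (F : FusionSystem S) (μ₀ : S →* A) (q : Pair S A) : Prop :=
  ∃ g, IsMap F q.P g ∧ ∀ (x : q.P) (h : g x ∈ S), q.μ x = μ₀ ⟨g x, h⟩

theorem PRel.pLift {q r : Pair S A} (h : PRel F q r) (hr : PLift F μ₀ r) : PLift F μ₀ q := by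
  obtain ⟨f, hf, hi, hμ⟩ := h
  obtain ⟨g, hg, hgμ⟩ := hr
  have hm : ∀ x ∈ q.P, f x ∈ r.P := fun x hx => hi ▸ IsMap.apply_mem_img hx
  exact ⟨g ∘ f, hf.comp hg hm, fun x h => (hμ x x.2 (hm x x.2)).symm.trans (hgμ ⟨f x, hm x x.2⟩ h)⟩

/-- The marks are constant on the conjugates of good pairs of order at least `n`. -/
def StableFrom (F : FusionSystem S) (Z : Subgroup Ω) (μ₀ : S →* A) (L : List (Comp S A)) (n : ℕ) : Prop :=
  ∀ q r : Pair S A, Good Z μ₀ q → n ≤ Nat.card q.P → PRel F q r → mq L q = mq L r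

/-- Sums of marks over corresponding sets of good pairs agree. -/
theorem sum_marks_map [Finite S] [Finite A] {L : List (Comp S A)} {n : ℕ}
    (hL : StableFrom F Z μ₀ L n) {K K' : Subgroup Ω} {g : Ω → Ω} (hg : IsMap F K g)
    (hi : img K g = K') (hn : n ≤ Nat.card K) (Q : (K →* A) → Prop) (Q' : (K' →* A) → Prop)
    [Fintype (K →* A)] [Fintype (K' →* A)] [DecidablePred Q] [DecidablePred Q']
    (hQ : ∀ μ, Q μ → Good Z μ₀ ⟨K, hg.le, μ⟩)
    (hiff : ∀ μ, Q μ ↔ Q' (μ.comp (hg.equiv hi).symm.toMonoidHom)) :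
    ∑ μ ∈ Finset.univ.filter Q, mark L K μ = ∑ μ ∈ Finset.univ.filter Q', mark L K' μ := by
  let e : (K →* A) ≃ (K' →* A) :=
    { toFun := fun μ => μ.comp (hg.equiv hi).symm.toMonoidHom
      invFun := fun ν => ν.comp (hg.equiv hi).toMonoidHom
      left_inv := fun μ => MonoidHom.ext fun x => by simp
      right_inv := fun ν => MonoidHom.ext fun x => by simp }
  refine Finset.sum_equiv e (fun μ => ?_) fun μ hμ => ?_
  · simp only [Finset.mem_filter, Finset.mem_univ, true_and]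
    exact hiff μ
  · simp only [Finset.mem_filter, Finset.mem_univ, true_and] at hμ
    refine hL ⟨K, hg.le, μ⟩ ⟨K', hi ▸ hg.img_le, e μ⟩ (hQ μ hμ) hn ⟨g, hg, hi, fun x hx hx' => ?_⟩
    show μ ((hg.equiv hi).symm ⟨g x, hx'⟩) = μ ⟨x, hx⟩
    rw [show (⟨g x, hx'⟩ : K') = hg.equiv hi ⟨x, hx⟩ from Subtype.ext rfl, MulEquiv.symm_apply_apply]

/-! ### Stabilisers of pairs -/

/-- The stabiliser of a pair in `S`. -/
abbrev W (q : Pair S A) : Subgroup S := pairStab S q.P q.μ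

theorem subgroupOf_le_W (q : Pair S A) : q.P.subgroupOf S ≤ W q := by
  intro u hu
  have hu' : (u : Ω) ∈ q.P := hu
  refine ⟨fun x => ⟨fun hx => q.P.mul_mem (q.P.mul_mem hu' hx) (q.P.inv_mem hu'), fun hx => ?_⟩, fun x => ?_⟩
  · have h := q.P.mul_mem (q.P.mul_mem (q.P.inv_mem hu') hx) hu'
    simpa [mul_assoc] using h
  · rw [show (⟨(u : Ω) * x * (u : Ω)⁻¹, _⟩ : q.P) = ⟨u, hu'⟩ * x * ⟨u, hu'⟩⁻¹ from rfl,
      map_mul, map_mul, map_inv, mul_inv_cancel_comm]

theorem card_subgroupOf (q : Pair S A) : Nat.card (q.P.subgroupOf S) = Nat.card q.P :=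
  Nat.card_congr (Subgroup.subgroupOfEquivOfLe q.le).toEquiv

/-- The index of the subgroup of a pair in its stabiliser. -/
noncomputable def wd (q : Pair S A) : ℕ := (q.P.subgroupOf S).relIndex (W q)

theorem card_W (q : Pair S A) : Nat.card (W q) = wd q * Nat.card q.P := by
  rw [wd, ← card_subgroupOf, ← Subgroup.relIndex_bot_left, ← Subgroup.relIndex_bot_left, mul_comm,
    Subgroup.relIndex_mul_relIndex _ _ _ bot_le (subgroupOf_le_W q)]

/-- Fixed cosets extending to `w`, over a whole monomial set. -/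
noncomputable def ext' (L : List (Comp S A)) (q : Pair S A) (w : S) : ℕ :=
  (L.map fun C => extCount C q.P q.μ w).sum

theorem ext'_of_mem (L : List (Comp S A)) {q : Pair S A} {w : S} (hw : (w : Ω) ∈ q.P) :
    ext' L q w = mq L q :=
  congrArg List.sum (List.map_congr_left fun _ _ => extCount_of_mem hw)

theorem dvd_sum_ext' [Finite S] (L : List (Comp S A)) (q : Pair S A) {U : Subgroup S}
    (hU : U ≤ W q) [Fintype U] : Nat.card U ∣ ∑ u : U, ext' L q (u : S) := by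
  simp only [ext']
  rw [← list_sum_finset]
  refine List.dvd_sum fun a ha => ?_
  obtain ⟨C, -, rfl⟩ := List.mem_map.mp ha
  exact dvd_sum_extCount q.P q.μ U hU

theorem ext'_eq_sum [Finite S] [Finite A] (L : List (Comp S A)) (q : Pair S A) (w : S)
    [Fintype ((q.P ⊔ Subgroup.zpowers (w : Ω) : Subgroup Ω) →* A)]
    [DecidablePred (Extends' (le_sup_left : q.P ≤ q.P ⊔ Subgroup.zpowers (w : Ω)) q.μ)] :
    ext' L q w = ∑ μ' ∈ Finset.univ.filter
      (Extends' (le_sup_left : q.P ≤ q.P ⊔ Subgroup.zpowers (w : Ω)) q.μ), mark L _ μ' := by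
  simp only [ext', mark]
  rw [← list_sum_finset]
  refine congrArg List.sum (List.map_congr_left fun C _ => ?_)
  rw [← card_fix_where (C := C) (sup_le q.le (Subgroup.zpowers_le.mpr w.2))]
  exact Nat.card_congr (Equiv.subtypeEquivRight fun c => fix_iff_sup q.le w)

/-- If the stabiliser of `q` maps into that of `r` over a conjugation, the marks are congruent. -/
theorem wd_dvd_sub [Finite S] [Finite A] {L : List (Comp S A)} {n : ℕ}
    (hL : StableFrom F Z μ₀ L n) {q r : Pair S A} (hq : Good Z μ₀ q)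
    (hn : n ≤ Nat.card q.P + 1) {T : Subgroup Ω} {g : Ω → Ω} (hg : IsMap F T g)
    (hPT : q.P ≤ T) (hi : img q.P g = r.P)
    (hμ : ∀ (x : Ω) (h : x ∈ q.P) (h' : g x ∈ r.P), r.μ ⟨g x, h'⟩ = q.μ ⟨x, h⟩)
    (hWT : ∀ w ∈ W q, (w : Ω) ∈ T) (hWr : ∀ w ∈ W q, ∀ h : g (w : Ω) ∈ S, (⟨g w, h⟩ : S) ∈ W r) :
    (wd q : ℤ) ∣ (mq L q : ℤ) - mq L r := by
  classical
  haveI := finite_of_le q.le
  haveI := finite_of_le r.le
  haveI : Fintype (W q) := Fintype.ofFinite _
  let φ : W q →* S := MonoidHom.mk' (fun w => ⟨g (w : S), hg.mem_S (hWT w.1 w.2)⟩)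
    fun a b => Subtype.ext (hg.map_mul (hWT a.1 a.2) (hWT b.1 b.2))
  have hφ : Function.Injective φ := fun a b h => Subtype.ext (Subtype.ext
    (hg.injOn (hWT a.1 a.2) (hWT b.1 b.2) (congrArg (fun t : S => (t : Ω)) h)))
  haveI : Fintype φ.range := Fintype.ofFinite _
  have hU : φ.range ≤ W r := by
    rintro _ ⟨w, rfl⟩
    exact hWr w.1 w.2 _
  have hmem : ∀ w : W q, ((w : S) : Ω) ∈ q.P ↔ (φ w : Ω) ∈ r.P := fun w => by
    rw [← hi, (hg.mono hPT).mem_img]
    exact ⟨fun h => ⟨_, h, rfl⟩, fun ⟨x, hx, e⟩ => hg.injOn (hPT hx) (hWT w.1 w.2) e ▸ hx⟩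
  have hcardU : Nat.card φ.range = Nat.card (W q) :=
    (Nat.card_congr (MonoidHom.ofInjective hφ).toEquiv).symm
  have hsum : ∑ u : φ.range, ext' L r (u : S) = ∑ w : W q, ext' L r (φ w) :=
    (Equiv.sum_comp (MonoidHom.ofInjective hφ).toEquiv (fun u : φ.range => ext' L r (u : S))).symm
  have d1 := dvd_sum_ext' L q (le_refl (W q))
  have d2 := dvd_sum_ext' L r hU
  rw [hcardU, hsum] at d2
  -- outside `q.P` the terms agree
  have hout : ∀ w : W q, ((w : S) : Ω) ∉ q.P → ext' L q (w : S) = ext' L r (φ w) := by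
    intro w hw
    have hK : q.P ⊔ Subgroup.zpowers ((w : S) : Ω) ≤ T :=
      sup_le hPT (Subgroup.zpowers_le.mpr (hWT w.1 w.2))
    have hiK : img (q.P ⊔ Subgroup.zpowers ((w : S) : Ω)) g =
        r.P ⊔ Subgroup.zpowers (φ w : Ω) := by
      obtain ⟨ψ, -, eψ⟩ := hg.mono hK
      rw [← IsMap.range_eq (hg.mono hK) eψ, MonoidHom.range_eq_map,
        ← Subgroup.subgroupOf_self, Subgroup.subgroupOf_sup le_sup_left le_sup_right,
        Subgroup.map_sup, ← hi]
      congr 1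
      · ext y
        rw [(hg.mono hPT).mem_img]
        constructor
        · rintro ⟨x, hx, rfl⟩
          exact ⟨x, hx, (eψ x).symm⟩
        · rintro ⟨x, hx, rfl⟩
          exact ⟨⟨x, Subgroup.mem_sup_left hx⟩, hx, eψ _⟩
      · ext y
        constructor
        · rintro ⟨x, hx, rfl⟩
          obtain ⟨i, hi'⟩ := Subgroup.mem_zpowers_iff.mp (Subgroup.mem_subgroupOf.mp hx)
          refine Subgroup.mem_zpowers_iff.mpr ⟨i, ?_⟩
          show (g _) ^ i = ψ x
          have e1 := eψ ⟨((w : S) : Ω), Subgroup.mem_sup_right (Subgroup.mem_zpowers _)⟩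
          rw [← e1, ← map_zpow]
          exact congrArg ψ (Subtype.ext hi')
        · intro hy
          obtain ⟨i, rfl⟩ := Subgroup.mem_zpowers_iff.mp hy
          refine ⟨⟨_, Subgroup.mem_sup_right (Subgroup.mem_zpowers _)⟩ ^ i, ?_, ?_⟩
          · exact Subgroup.zpow_mem _ (Subgroup.mem_subgroupOf.mpr (Subgroup.mem_zpowers _)) i
          · rw [map_zpow, eψ]
            rfl
    haveI := finite_of_le ((hg.mono hK).le)
    haveI := finite_of_le (hiK ▸ (hg.mono hK).img_le)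
    haveI := finite_hom (A := A) (K := (q.P ⊔ Subgroup.zpowers ((w : S) : Ω) : Subgroup Ω))
    haveI := finite_hom (A := A) (K := (r.P ⊔ Subgroup.zpowers (φ w : Ω) : Subgroup Ω))
    haveI : Fintype ((q.P ⊔ Subgroup.zpowers ((w : S) : Ω) : Subgroup Ω) →* A) := Fintype.ofFinite _
    haveI : Fintype ((r.P ⊔ Subgroup.zpowers (φ w : Ω) : Subgroup Ω) →* A) := Fintype.ofFinite _
    rw [ext'_eq_sum, ext'_eq_sum]
    refine sum_marks_map hL (hg.mono hK) hiK ?_ _ _ ?_ ?_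
    · have hlt : q.P < q.P ⊔ Subgroup.zpowers ((w : S) : Ω) :=
        lt_of_le_of_ne le_sup_left fun e => hw (e ▸ Subgroup.mem_sup_right (Subgroup.mem_zpowers _))
      have : Nat.card q.P < Nat.card (q.P ⊔ Subgroup.zpowers ((w : S) : Ω) : Subgroup Ω) :=
        lt_of_not_ge fun h => hlt.ne (Subgroup.eq_of_le_of_card_ge le_sup_left h)
      omega
    · intro μ hμ'
      refine ⟨hq.1.trans le_sup_left, fun x hx => ?_⟩
      have h1 := hμ' ⟨x, hq.1 hx⟩
      rw [hq.2 ⟨x, hq.1 hx⟩ hx] at h1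
      exact h1
    · intro μ
      constructor
      · intro h y
        obtain ⟨x, hx, hxy⟩ := (hg.mono hPT).mem_img.mp (hi.symm ▸ y.2 : (y : Ω) ∈ img q.P g)
        have e : Subgroup.inclusion le_sup_left y =
            (hg.mono hK).equiv hiK (Subgroup.inclusion le_sup_left ⟨x, hx⟩) := Subtype.ext hxy.symm
        show μ (((hg.mono hK).equiv hiK).symm (Subgroup.inclusion le_sup_left y)) = r.μ y
        rw [e, MulEquiv.symm_apply_apply, h, ← hμ x hx (hxy.symm ▸ y.2)]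
        exact congrArg r.μ (Subtype.ext hxy)
      · intro h x
        have hgx : g x ∈ r.P := hi ▸ IsMap.apply_mem_img x.2
        have := h ⟨g x, hgx⟩
        rw [hμ x x.2 hgx] at this
        rw [← this]
        show _ = μ (((hg.mono hK).equiv hiK).symm _)
        rw [show Subgroup.inclusion (le_sup_left : r.P ≤ r.P ⊔ _) ⟨g x, hgx⟩ =
          (hg.mono hK).equiv hiK (Subgroup.inclusion le_sup_left x) from Subtype.ext rfl,
          MulEquiv.symm_apply_apply]
  -- inside `q.P` the terms are the two marks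
  set B := (Finset.univ : Finset (W q)).filter (fun w : W q => ((w : S) : Ω) ∈ q.P) with hB
  have hBc : B.card = Nat.card q.P := by
    rw [hB, ← Fintype.card_subtype, ← Nat.card_eq_fintype_card]
    exact Nat.card_congr
      { toFun := fun w => ⟨_, w.2⟩
        invFun := fun x => ⟨⟨⟨x, q.le x.2⟩, subgroupOf_le_W q x.2⟩, x.2⟩
        left_inv := fun _ => rfl
        right_inv := fun _ => rfl }
  have s1 : ∑ w : W q, ext' L q (w : S) = Nat.card q.P * mq L q +
      ∑ w ∈ Finset.univ.filter (fun w : W q => ((w : S) : Ω) ∉ q.P), ext' L q (w : S) := by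
    rw [← Finset.sum_filter_add_sum_filter_not Finset.univ (fun w : W q => ((w : S) : Ω) ∈ q.P),
      ← hBc, Finset.sum_congr (s₂ := B) rfl fun w hw => ext'_of_mem L (Finset.mem_filter.mp hw).2,
      Finset.sum_const, smul_eq_mul]
  have s2 : ∑ w : W q, ext' L r (φ w) = Nat.card q.P * mq L r +
      ∑ w ∈ Finset.univ.filter (fun w : W q => ((w : S) : Ω) ∉ q.P), ext' L q (w : S) := by
    rw [← Finset.sum_filter_add_sum_filter_not Finset.univ (fun w : W q => ((w : S) : Ω) ∈ q.P),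
      ← hBc, Finset.sum_congr (s₂ := B) rfl fun w hw =>
        ext'_of_mem L ((hmem w).mp (Finset.mem_filter.mp hw).2),
      Finset.sum_const, smul_eq_mul]
    congr 1
    exact Finset.sum_congr rfl fun w hw => (hout w (Finset.mem_filter.mp hw).2).symm
  have d := dvd_sub (Int.natCast_dvd_natCast.mpr d1) (Int.natCast_dvd_natCast.mpr d2)
  rw [s1, s2, card_W] at d
  push_cast at d
  have hpos : (Nat.card q.P : ℤ) ≠ 0 := Int.natCast_ne_zero.mpr Nat.card_pos.ne'
  refine (mul_dvd_mul_iff_left hpos).mp ?_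
  rw [mul_comm]
  convert d using 1
  ring

end Cfsg.Lib.Fusion.Transfer
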