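import Cfsg.Agent.Fusion.Transfer.Pairs

/-!
A monomial set whose marks are stable under a saturated fusion system.
-/

set_option autoImplicit false

namespace Cfsg.Lib.Fusion.Transfer

open Cfsg Cfsg.FusionSystem

variable {Ω : Type*} [Group Ω] {S : Subgroup Ω} {F : FusionSystem S} {A : Type*} [CommGroup A]
  {Z : Subgroup Ω} {μ₀ : S →* A} {p : ℕ}

/-! ### Representatives of classes of pairs -/

/-- The automorphisms in the system fixing the homomorphism of a pair. -/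
def muStab (F : FusionSystem S) (q : Pair S A) : Subgroup (MulAut q.P) where
  carrier := {α | α ∈ F.autGroup q.P ∧ ∀ x, q.μ (α x) = q.μ x}
  one_mem' := ⟨Subgroup.one_mem _, fun _ => rfl⟩
  mul_mem' := fun {a b} ha hb => ⟨Subgroup.mul_mem _ ha.1 hb.1, fun x => (ha.2 (b x)).trans (hb.2 x)⟩
  inv_mem' := fun {a} ha => ⟨Subgroup.inv_mem _ ha.1, fun x => by
    rw [← ha.2 (a⁻¹ x), MulAut.apply_inv_self]⟩

/-- A representative able to receive the stabilisers of all its conjugates. -/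
def IsRep (F : FusionSystem S) (p : ℕ) (r : Pair S A) : Prop :=
  F.IsFullyNormalized r.P ∧ ∀ X : Subgroup (MulAut r.P), IsPGroup p X → X ≤ muStab F r →
    ∃ χ ∈ muStab F r, ∀ β ∈ X, χ * β * χ⁻¹ ∈ autInducedBy S r.P

theorem exists_conj_into_sylow {G : Type*} [Group G] [Finite G] [Fact p.Prime] (R : Sylow p G)
    {X : Subgroup G} (hX : IsPGroup p X) : ∃ c : G, ∀ x ∈ X, c * x * c⁻¹ ∈ (R : Subgroup G) := by
  obtain ⟨T, hT⟩ := hX.exists_le_sylow
  obtain ⟨c, hc⟩ := MulAction.exists_smul_eq G T R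
  exact ⟨c, fun x hx => hc ▸ ⟨x, hT hx, rfl⟩⟩

theorem exists_rep [Finite S] [Fact p.Prime] (hS : IsPGroup p S) (hF : F.IsSaturated p)
    (q : Pair S A) : ∃ r, PRel F q r ∧ IsRep F p r := by
  obtain ⟨Q, hPQ, hQ⟩ := exists_fullyNormalized (F := F) q.le
  obtain ⟨f, hf, hi⟩ := isConj_iff.mp hPQ
  have hfa := (fullyNormalized_props hS hF hQ).2.1
  haveI := finite_of_le hQ.1
  let r₁ : Pair S A := ⟨Q, hQ.1, q.μ.comp (hf.equiv hi).symm.toMonoidHom⟩
  obtain ⟨R⟩ : Nonempty (Sylow p (muStab F r₁)) := inferInstance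
  have hR : IsPGroup p ((R : Subgroup (muStab F r₁)).map (muStab F r₁).subtype) :=
    R.2.map _
  have hRle : (R : Subgroup (muStab F r₁)).map (muStab F r₁).subtype ≤ F.autGroup Q := by
    rintro _ ⟨a, -, rfl⟩
    exact a.2.1
  obtain ⟨χ, hχ, hχR⟩ := exists_conj_into_autS hfa hR hRle
  let r : Pair S A := ⟨Q, hQ.1, r₁.μ.comp (χ⁻¹ : MulAut Q).toMonoidHom⟩
  have hχi : img Q (autFun χ) = Q := img_autFun χ
  have h1 : PRel F q r₁ := ⟨f, hf, hi, fun x hx hx' => by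
    show q.μ ((hf.equiv hi).symm ⟨f x, hx'⟩) = q.μ ⟨x, hx⟩
    rw [show (⟨f x, hx'⟩ : Q) = hf.equiv hi ⟨x, hx⟩ from Subtype.ext rfl, MulEquiv.symm_apply_apply]⟩
  have h2 : PRel F r₁ r := ⟨autFun χ, (isMap_autFun hQ.1).mpr hχ, hχi, fun x hx hx' => by
    show r₁.μ ((χ⁻¹ : MulAut Q) ⟨autFun χ x, hx'⟩) = r₁.μ ⟨x, hx⟩
    rw [show (⟨autFun χ x, hx'⟩ : Q) = χ ⟨x, hx⟩ from Subtype.ext (autFun_apply_mem χ hx),
      MulAut.inv_apply_self]⟩
  refine ⟨r, h1.trans h2, hQ, fun X hX hXle => ?_⟩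
  -- conjugate back into the Sylow subgroup of the stabiliser of `r₁`
  have hsub : ∀ β ∈ muStab F r, χ⁻¹ * β * χ ∈ muStab F r₁ := fun β hβ =>
    ⟨Subgroup.mul_mem _ (Subgroup.mul_mem _ (Subgroup.inv_mem _ hχ) hβ.1) hχ, fun x => by
      have := hβ.2 (χ x)
      show r₁.μ ((χ⁻¹ : MulAut Q) (β (χ x))) = _
      refine this.trans ?_
      show r₁.μ ((χ⁻¹ : MulAut Q) (χ x)) = _
      rw [MulAut.inv_apply_self]⟩
  let c₀ : X →* muStab F r₁ := MonoidHom.mk' (fun β => ⟨χ⁻¹ * β.1 * χ, hsub _ (hXle β.2)⟩)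
    fun a b => Subtype.ext (by show χ⁻¹ * ((a : MulAut Q) * b) * χ = _; simp [mul_assoc])
  obtain ⟨c, hc⟩ := exists_conj_into_sylow R (X := c₀.range)
    (hX.of_surjective _ c₀.rangeRestrict_surjective)
  refine ⟨χ * c * χ⁻¹, ⟨Subgroup.mul_mem _ (Subgroup.mul_mem _ hχ c.2.1) (Subgroup.inv_mem _ hχ),
    fun x => ?_⟩, fun β hβ => ?_⟩
  · show r₁.μ ((χ⁻¹ : MulAut Q) (χ ((c : MulAut Q) ((χ⁻¹ : MulAut Q) x)))) = _
    rw [MulAut.inv_apply_self]
    exact c.2.2 _
  · have h := hχR _ ⟨_, hc _ ⟨⟨β, hβ⟩, rfl⟩, rfl⟩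
    have e : χ * (c : MulAut Q) * χ⁻¹ * β * (χ * (c : MulAut Q) * χ⁻¹)⁻¹ =
        χ * ((c : MulAut Q) * (χ⁻¹ * β * χ) * (c : MulAut Q)⁻¹) * χ⁻¹ := by group
    rw [e]
    exact h

/-- The congruence between a pair and a receiving representative. -/
theorem wd_dvd_sub_rep [Finite S] [Finite A] [Fact p.Prime] (hS : IsPGroup p S)
    (hF : F.IsSaturated p) {L : List (Comp S A)} {n : ℕ} (hL : StableFrom F Z μ₀ L n)
    {q r : Pair S A} (hq : Good Z μ₀ q) (hn : n ≤ Nat.card q.P + 1) (hqr : PRel F q r)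
    (hr : IsRep F p r) : (wd q : ℤ) ∣ (mq L q : ℤ) - mq L r := by
  obtain ⟨f₀, hf₀, hi, hμ⟩ := hqr
  have hnorm : ∀ u : W q, ((u : S) : Ω) ∈ Subgroup.normalizer (q.P : Set Ω) := fun u =>
    Subgroup.mem_normalizer_iff.mpr u.2.choose
  let ψ : W q →* MulAut r.P := MonoidHom.mk'
    (fun u => MulAut.congr (hf₀.equiv hi) (conjAut q.P _ (hnorm u)))
    fun a b => by
      rw [← map_mul]
      exact congrArg _ (map_mul q.P.normalizerMonoidHom ⟨_, hnorm a⟩ ⟨_, hnorm b⟩)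
  have hψ : ψ.range ≤ muStab F r := by
    rintro _ ⟨u, rfl⟩
    refine ⟨congr_mem_autGroup hf₀ hi (autInducedBy_le hf₀.le
      (conjAut_mem_autInducedBy (hnorm u) (u : S).2)), fun y => ?_⟩
    obtain ⟨x, hx, hxy⟩ := hf₀.mem_img.mp (hi.symm ▸ y.2 : (y : Ω) ∈ img q.P f₀)
    show r.μ (MulAut.congr (hf₀.equiv hi) (conjAut q.P _ (hnorm u)) y) = r.μ y
    have hy : y = hf₀.equiv hi ⟨x, hx⟩ := Subtype.ext hxy.symm
    rw [hy]
    show r.μ (hf₀.equiv hi (conjAut q.P _ (hnorm u) ((hf₀.equiv hi).symm (hf₀.equiv hi ⟨x, hx⟩)))) = _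
    rw [MulEquiv.symm_apply_apply]
    exact (hμ _ _ _).trans ((u.2.choose_spec ⟨x, hx⟩).trans (hμ x hx (hi ▸ IsMap.apply_mem_img hx)).symm)
  obtain ⟨χ, hχ, hχK⟩ := hr.2 ψ.range
    ((hS.of_injective _ (W q).subtype_injective).of_surjective _ ψ.rangeRestrict_surjective) hψ
  have hmem : ∀ x ∈ q.P, f₀ x ∈ r.P := fun x hx => hi ▸ IsMap.apply_mem_img hx
  let f₁ := autFun χ ∘ f₀
  have hf₁ : IsMap F q.P f₁ := hf₀.comp ((isMap_autFun r.le).mpr hχ.1) hmem
  have hi₁ : img q.P f₁ = r.P := by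
    have this : IsMap F (img q.P f₀) (autFun χ) := ((isMap_autFun r.le).mpr hχ.1).mono hi.le
    show img q.P (autFun χ ∘ f₀) = _
    rw [img_comp hf₀ this, hi, img_autFun]
  have hμ₁ : ∀ (x : Ω) (h : x ∈ q.P) (h' : f₁ x ∈ r.P), r.μ ⟨f₁ x, h'⟩ = q.μ ⟨x, h⟩ := by
    intro x hx hx'
    rw [show (⟨f₁ x, hx'⟩ : r.P) = χ ⟨f₀ x, hmem x hx⟩ from
      Subtype.ext (autFun_apply_mem χ (hmem x hx)), hχ.2]
    exact hμ x hx _
  have hWext : ∀ u ∈ W q, (u : Ω) ∈ extSub S q.P f₁ := by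
    intro u hu
    obtain ⟨h, hh, eh⟩ := mem_autInducedBy.mp (hχK (ψ ⟨u, hu⟩) ⟨⟨u, hu⟩, rfl⟩)
    refine mem_extSub.mpr ⟨u.2, hnorm ⟨u, hu⟩, h, hh, fun x hx => ?_⟩
    show autFun χ (f₀ ((u : Ω) * x * (u : Ω)⁻¹)) = h * autFun χ (f₀ x) * h⁻¹
    have hcg : f₀ ((u : Ω) * x * (u : Ω)⁻¹) = autFun (ψ ⟨u, hu⟩) (f₀ x) := by
      show _ = autFun (MulAut.congr (hf₀.equiv hi) (conjAut q.P _ (hnorm ⟨u, hu⟩))) (f₀ x)
      rw [congr_equiv_spec hf₀ hi _ hx, autFun_apply_mem _ hx]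
      rfl
    have := eh ⟨autFun χ (f₀ x), autFun_mem χ (hmem x hx)⟩
    rw [hcg, ← this, ← autFun_mul χ _ (hmem x hx)]
    rw [← autFun_apply (χ * ψ ⟨u, hu⟩ * χ⁻¹) ⟨_, autFun_mem χ (hmem x hx)⟩]
    rw [← autFun_mul _ χ (hmem x hx), inv_mul_cancel_right]
  obtain ⟨g, hg, hag⟩ := receptive_extend (fullyNormalized_props hS hF hr.1).2.2 hf₁ hi₁
  have hgi : img q.P g = r.P := (img_congr hag).trans hi₁
  refine wd_dvd_sub hL hq hn hg (le_extSub hf₁) hgi (fun x hx hx' => ?_) hWext fun w hw h => ?_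
  · rw [show (⟨g x, hx'⟩ : r.P) = ⟨f₁ x, hag x hx ▸ hx'⟩ from Subtype.ext (hag x hx)]
    exact hμ₁ x hx _
  · have hn' := hg.mem_normalizerIn (le_extSub hf₁) (hWext w hw) (hnorm ⟨w, hw⟩)
    rw [hgi] at hn'
    refine ⟨Subgroup.mem_normalizer_iff.mp hn'.2, fun y => ?_⟩
    obtain ⟨x, hx, hxy⟩ := (hg.mono (le_extSub hf₁)).mem_img.mp (hgi.symm ▸ y.2 : (y : Ω) ∈ img q.P g)
    obtain ⟨hw1, hw2⟩ := hw
    have hx2 : (w : Ω) * x * (w : Ω)⁻¹ ∈ q.P := (hw1 x).mp hx
    have e : g ((w : Ω) * x * (w : Ω)⁻¹) = g w * y * (g w)⁻¹ := by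
      rw [hg.map_conj (hWext w ⟨hw1, hw2⟩) (le_extSub hf₁ hx), hxy]
    have hmem' : ∀ z ∈ q.P, g z ∈ r.P := fun z hz => hgi ▸ IsMap.apply_mem_img hz
    have hμg : ∀ z (hz : z ∈ q.P), r.μ ⟨g z, hmem' z hz⟩ = q.μ ⟨z, hz⟩ := fun z hz => by
      rw [show (⟨g z, hmem' z hz⟩ : r.P) = ⟨f₁ z, hag z hz ▸ hmem' z hz⟩ from
        Subtype.ext (hag z hz)]
      exact hμ₁ z hz _
    rw [show y = ⟨g x, hmem' x hx⟩ from Subtype.ext hxy.symm, hμg x hx]
    refine (congrArg r.μ (Subtype.ext (?_ : _ = g ((w : Ω) * x * (w : Ω)⁻¹)))).trans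
      ((hμg _ hx2).trans (hw2 ⟨x, hx⟩))
    rw [e, ← hxy]

/-! ### The pieces to be added -/

/-- The transitive monomial set of a pair. -/
noncomputable def comp (t : Pair S A) : Comp S A :=
  ⟨t.P.subgroupOf S, t.μ.comp (Subgroup.subgroupOfEquivOfLe t.le).toMonoidHom⟩

theorem fix_comp {t : Pair S A} {P : Subgroup Ω} {μ : P →* A} (hP : P ≤ S) (s : S) :
    Fix (comp t) P μ (QuotientGroup.mk s) ↔
      ∀ x (hx : x ∈ P), ∃ h : (s : Ω)⁻¹ * x * s ∈ t.P, t.μ ⟨_, h⟩ = μ ⟨x, hx⟩ := by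
  constructor
  · intro h x hx
    obtain ⟨h1, h2⟩ := h ⟨x, hP hx⟩ hx
    rw [cval_eq (smul_mk_eq_iff.mp h1)] at h2
    exact ⟨smul_mk_eq_iff.mp h1, h2⟩
  · intro h x hx
    obtain ⟨h1, h2⟩ := h x hx
    have h1' : s⁻¹ * x * s ∈ (comp t).R := h1
    exact ⟨smul_mk_eq_iff.mpr h1', (cval_eq h1').trans h2⟩

/-- Conjugacy of pairs inside `S`. -/
def SRel (q r : Pair S A) : Prop :=
  ∃ u : S, ∃ h : ∀ x : Ω, x ∈ q.P ↔ (u : Ω) * x * (u : Ω)⁻¹ ∈ r.P,
    ∀ x : q.P, r.μ ⟨_, (h x).mp x.2⟩ = q.μ x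

theorem SRel.refl (q : Pair S A) : SRel q q :=
  ⟨1, fun x => by simp, fun x => congrArg q.μ (Subtype.ext (by simp))⟩

theorem SRel.symm {q r : Pair S A} (hqr : SRel q r) : SRel r q := by
  obtain ⟨u, h, hμ⟩ := hqr
  have h' : ∀ x : Ω, x ∈ r.P ↔ ((u⁻¹ : S) : Ω) * x * ((u⁻¹ : S) : Ω)⁻¹ ∈ q.P := fun x => by
    rw [h (((u⁻¹ : S) : Ω) * x * ((u⁻¹ : S) : Ω)⁻¹)]
    simp [mul_assoc]
  refine ⟨u⁻¹, h', fun x => ?_⟩
  rw [← hμ ⟨_, (h' x).mp x.2⟩]
  exact congrArg r.μ (Subtype.ext (by simp [mul_assoc]))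

theorem SRel.trans {q r t : Pair S A} (hqr : SRel q r) (hrt : SRel r t) : SRel q t := by
  obtain ⟨u, h, hμ⟩ := hqr
  obtain ⟨v, h', hν⟩ := hrt
  refine ⟨v * u, fun x => ((h x).trans (h' _)).trans (by simp [mul_assoc]), fun x => ?_⟩
  rw [← hμ x, ← hν ⟨_, (h x).mp x.2⟩]
  exact congrArg t.μ (Subtype.ext (by simp [mul_assoc]))

theorem SRel.mq_eq {q r : Pair S A} (h : SRel q r) (L : List (Comp S A)) : mq L q = mq L r := by
  obtain ⟨u, h, hμ⟩ := h
  exact mark_conj u (fun x => h (x : Ω)) (fun x hx => hμ ⟨x, hx⟩)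

theorem SRel.pRel {q r : Pair S A} (h : SRel q r) : PRel F q r := by
  obtain ⟨u, h, hμ⟩ := h
  refine ⟨_, isMap_conj q.le u.2, ?_, fun x hx hx' => hμ ⟨x, hx⟩⟩
  refine le_antisymm (IsMap.img_le_iff.mpr fun x hx => (h x).mp hx) fun y hy => ?_
  have hy' : (u : Ω)⁻¹ * y * u ∈ q.P := (h _).mpr (by simpa [mul_assoc] using hy)
  convert IsMap.apply_mem_img (f := fun x => (u : Ω) * x * (u : Ω)⁻¹) hy' using 1
  group

theorem mk'_comp_self [Finite S] (t : Pair S A) : mk' (comp t) t.P t.μ = wd t := by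
  haveI := finite_of_le t.le
  have e : ((QuotientGroup.mk : S → S ⧸ (comp t).R) ⁻¹' {c | Fix (comp t) t.P t.μ c}) = W t := by
    ext s
    show Fix (comp t) t.P t.μ (QuotientGroup.mk s) ↔ s ∈ W t
    rw [fix_comp t.le]
    constructor
    · intro h
      have hmaps : ∀ x ∈ t.P, (s : Ω)⁻¹ * x * ((s : Ω)⁻¹)⁻¹ ∈ t.P := fun x hx => by
        rw [inv_inv]; exact (h x hx).1
      have hn := mem_normalizer_of_maps_finite hmaps
      rw [inv_mem_iff] at hn
      have hn' := Subgroup.mem_normalizer_iff.mp hn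
      refine ⟨hn', fun x => ?_⟩
      obtain ⟨h1, h2⟩ := h _ ((hn' x).mp x.2)
      rw [← h2]
      exact congrArg t.μ (Subtype.ext (by group))
    · rintro ⟨hu, hu'⟩ x hx
      have h1 : (s : Ω)⁻¹ * x * s ∈ t.P := (hu _).mpr (by simpa [mul_assoc] using hx)
      refine ⟨h1, ?_⟩
      rw [← hu' ⟨_, h1⟩]
      exact congrArg t.μ (Subtype.ext (by group))
  have h := Nat.card_congr (QuotientGroup.preimageMkEquivSubgroupProdSet (comp t).R
    {c | Fix (comp t) t.P t.μ c})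
  rw [Nat.card_prod, e] at h
  have h' : Nat.card (W t) = Nat.card t.P * mk' (comp t) t.P t.μ := by
    rw [← card_subgroupOf]
    exact h
  rw [card_W, mul_comm] at h'
  exact (mul_left_cancel₀ Nat.card_pos.ne' h').symm

theorem mk'_comp [Finite S] {q t : Pair S A} (hcard : Nat.card t.P ≤ Nat.card q.P) :
    (SRel q t → mk' (comp t) q.P q.μ = wd t) ∧ (¬ SRel q t → mk' (comp t) q.P q.μ = 0) := by
  haveI := finite_of_le t.le
  refine ⟨fun h => ?_, fun h => ?_⟩
  · have := h.mq_eq [comp t]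
    simp only [mark, List.map_cons, List.map_nil, List.sum_cons, List.sum_nil, add_zero] at this
    rw [this, mk'_comp_self]
  · haveI : IsEmpty {c : S ⧸ (comp t).R // Fix (comp t) q.P q.μ c} := by
      refine ⟨fun ⟨c, hc⟩ => ?_⟩
      induction c using QuotientGroup.induction_on with
      | H s =>
        rw [fix_comp q.le] at hc
        let j : q.P → t.P := fun x => ⟨_, (hc x x.2).1⟩
        have hj : Function.Injective j := fun a b hab => Subtype.ext <| by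
          simpa [j] using hab
        haveI := finite_of_le q.le
        have hb := hj.bijective_of_nat_card_le hcard
        refine h ⟨s⁻¹, fun x => ⟨fun hx => by simpa using (hc x hx).1, fun hx => ?_⟩,
          fun x => by
            rw [← (hc x x.2).2]
            exact congrArg t.μ (Subtype.ext (by simp))⟩
        obtain ⟨y, hy⟩ := hb.2 ⟨_, hx⟩
        have : (y : Ω) = x := by simpa [j] using congrArg Subtype.val hy
        exact this ▸ y.2
    exact Nat.card_of_isEmpty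

/-! ### The induction -/

/-- The homomorphism of a piece comes from `μ₀` along a map of the system. -/
def CLift (F : FusionSystem S) (μ₀ : S →* A) (C : Comp S A) : Prop :=
  ∃ g, IsMap F (C.R.map S.subtype) g ∧
    ∀ (r : C.R) (h : g ((r : S) : Ω) ∈ S), C.ν r = μ₀ ⟨g ((r : S) : Ω), h⟩

/-- All pieces restrict to `μ₀` on `Z`, come from `μ₀` along maps of the system, and the total degree is
prime to `p`. -/
def Base (F : FusionSystem S) (p : ℕ) (Z : Subgroup Ω) (μ₀ : S →* A) (L : List (Comp S A)) : Prop :=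
  (∀ C ∈ L, (Z.subgroupOf S ≤ C.R ∧ ∀ z : C.R, ((z : S) : Ω) ∈ Z → C.ν z = μ₀ z) ∧ CLift F μ₀ C) ∧
    ¬ p ∣ (L.map fun C => C.R.index).sum

/-- Marks vanish away from the pairs coming from `μ₀`. -/
theorem mark_eq_zero_of_not_pLift {L : List (Comp S A)} (hb : Base F p Z μ₀ L) {q : Pair S A}
    (hq : ¬ PLift F μ₀ q) : mq L q = 0 := by
  refine List.sum_eq_zero fun t ht => ?_
  obtain ⟨C, hC, rfl⟩ := List.mem_map.mp ht
  haveI : IsEmpty {c : S ⧸ C.R // Fix C q.P q.μ c} := by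
    refine ⟨fun ⟨c, h⟩ => hq ?_⟩
    induction c using QuotientGroup.induction_on with
    | H s =>
      obtain ⟨g, hg, hgν⟩ := (hb.1 C hC).2
      have hconj : IsMap F q.P (fun x => ((s⁻¹ : S) : Ω) * x * ((s⁻¹ : S) : Ω)⁻¹) :=
        isMap_conj q.le (s⁻¹ : S).2
      have hmem : ∀ x (hx : x ∈ q.P), ((s⁻¹ : S) : Ω) * x * ((s⁻¹ : S) : Ω)⁻¹ ∈ C.R.map S.subtype :=
        fun x hx => ⟨_, smul_mk_eq_iff.mp (h ⟨x, q.le hx⟩ hx).1, by simp⟩
      refine ⟨_, hconj.comp hg hmem, fun x hx' => ?_⟩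
      obtain ⟨h1, h2⟩ := h ⟨x, q.le x.2⟩ x.2
      rw [cval_eq (smul_mk_eq_iff.mp h1)] at h2
      have e : ((s⁻¹ * ⟨x, q.le x.2⟩ * s : S) : Ω) = ((s⁻¹ : S) : Ω) * x * ((s⁻¹ : S) : Ω)⁻¹ := by simp
      refine h2.symm.trans ((hgν _ ?_).trans (congrArg μ₀ (Subtype.ext (congrArg g e))))
      show g ((s⁻¹ * ⟨x, q.le x.2⟩ * s : S) : Ω) ∈ S
      rw [e]
      exact hx'
  exact Nat.card_of_isEmpty

theorem base_top [Finite S] [Finite A] [Fact p.Prime] (hS : IsPGroup p S) (hF : F.IsSaturated p)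
    (μ₀ : S →* A) (hZ : Fixed F Z μ₀) :
    ∃ L, Base F p Z μ₀ L ∧ StableFrom F Z μ₀ L (Nat.card S) := by
  classical
  have hSn : F.IsFullyNormalized S := ⟨le_rfl, fun Q hQ => by
    rw [show normalizerIn S S = S from le_antisymm inf_le_left (le_normalizerIn le_rfl)]
    exact Subgroup.card_le_of_le inf_le_left⟩
  have hfa := (isFullyAutomized_iff hS).mp (fullyNormalized_props hS hF hSn).2.1
  haveI : Finite (MulAut S) := inferInstance
  let H : Subgroup (F.autGroup S) := (autInducedBy S S).subgroupOf (F.autGroup S)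
  haveI : Fintype (F.autGroup S ⧸ H) := Fintype.ofFinite _
  let piece : (F.autGroup S ⧸ H) → Comp S A := fun c =>
    ⟨⊤, (μ₀.comp ((c.out : MulAut S)⁻¹).toMonoidHom).comp (⊤ : Subgroup S).subtype⟩
  refine ⟨Finset.univ.toList.map piece, ⟨fun C hC => ?_, ?_⟩, ?_⟩
  · obtain ⟨c, -, rfl⟩ := List.mem_map.mp hC
    have hm := (isMap_autFun (F := F) le_rfl).mpr (Subgroup.inv_mem _ c.out.2)
    refine ⟨⟨le_top, fun z hz => ?_⟩, _, hm.mono (Subgroup.map_subtype_le _), fun r h => ?_⟩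
    · refine (congrArg μ₀ (Subtype.ext ?_)).trans
        (hZ.apply hm hz (z : S).2 (z : S).2 (hm.mem_S (z : S).2))
      exact (autFun_apply _ _).symm
    · exact congrArg μ₀ (Subtype.ext (autFun_apply _ _).symm)
  · have e1 : ((Finset.univ.toList.map piece).map fun C => C.R.index).sum = H.index := by
      rw [List.map_map, Finset.sum_map_toList]
      simp [piece, Subgroup.index, Nat.card_eq_fintype_card]
    rw [e1]
    exact hfa.2
  · intro q r hq hn hqr
    haveI := finite_of_le q.le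
    have hqS : q.P = S := Subgroup.eq_of_le_of_card_ge q.le hn
    have hrS : r.P = S := Subgroup.eq_of_le_of_card_ge r.le (hn.trans hqr.card_eq.ge)
    obtain ⟨f, hf, hi, hμ⟩ := hqr
    have hfS : IsMap F S f := hf.mono hqS.ge
    obtain ⟨β, hβ, hβf⟩ := hfS.exists_aut (by rw [← hqS, hi, hqS, hrS])
    have hmark : ∀ t : Pair S A, t.P = S → mq (Finset.univ.toList.map piece) t =
        Nat.card {c : F.autGroup S ⧸ H // ∀ (x : S) (h : (x : Ω) ∈ t.P),
          μ₀ (((c.out : MulAut S)⁻¹) x) = t.μ ⟨x, h⟩} := by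
      intro t ht
      rw [Nat.card_eq_fintype_card, Fintype.card_subtype, Finset.card_filter, mq, mark,
        List.map_map, Finset.sum_map_toList]
      refine Finset.sum_congr rfl fun c _ => ?_
      haveI : Subsingleton (S ⧸ (piece c).R) := QuotientGroup.subsingleton_quotient_top
      show mk' (piece c) t.P t.μ = _
      have hone : ∀ x : S, (1 : S)⁻¹ * x * 1 ∈ (piece c).R := fun _ => Subgroup.mem_top _
      split_ifs with h
      · refine Nat.card_eq_one_iff_unique.mpr ⟨inferInstance, ⟨QuotientGroup.mk 1, fun x hx =>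
          ⟨Subsingleton.elim _ _, (cval_eq (hone x)).trans ?_⟩⟩⟩
        rw [← h x hx]
        show μ₀ (((c.out : MulAut S)⁻¹) ((1 : S)⁻¹ * x * 1)) = _; rw [inv_one, one_mul, mul_one]
      · haveI : IsEmpty {y : S ⧸ (piece c).R // Fix (piece c) t.P t.μ y} := ⟨fun ⟨y, hy⟩ => h
          fun x hx => by
            rw [← (hy x hx).2, Subsingleton.elim y (QuotientGroup.mk 1), cval_eq (hone x)]
            exact congrArg _ (congrArg _ (by simp))⟩
        exact Nat.card_of_isEmpty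
    rw [hmark q hqS, hmark r hrS]
    have hwd : ∀ a b : F.autGroup S, a⁻¹ * b ∈ H → ∀ x,
        μ₀ (((b : MulAut S))⁻¹ x) = μ₀ (((a : MulAut S))⁻¹ x) := by
      intro a b hab x
      obtain ⟨g, hg, eg⟩ := mem_autInducedBy.mp (Subgroup.mem_subgroupOf.mp (H.inv_mem hab))
      have e : ((b : MulAut S))⁻¹ x = ⟨g, hg⟩ * ((a : MulAut S))⁻¹ x * (⟨g, hg⟩ : S)⁻¹ := by
        refine Subtype.ext ?_
        show _ = g * ((((a : MulAut S))⁻¹ x : S) : Ω) * g⁻¹
        rw [← eg]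
        simp [MulAut.mul_apply]
      rw [e, map_mul, map_mul, map_inv, mul_inv_cancel_comm]
    let b : F.autGroup S := ⟨β, hβ⟩
    refine Nat.card_congr (Equiv.subtypeEquiv (MulAction.toPerm b) fun c => ?_)
    have hout : ∀ x, μ₀ ((((b • c).out : F.autGroup S) : MulAut S)⁻¹ x) =
        μ₀ ((c.out : MulAut S)⁻¹ ((β⁻¹ : MulAut S) x)) := fun x => by
      refine (hwd (b * c.out) ((b • c).out) (QuotientGroup.eq.mp ?_) x).trans ?_
      · rw [QuotientGroup.out_eq']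
        show b • (QuotientGroup.mk c.out : F.autGroup S ⧸ H) = _
        rw [QuotientGroup.out_eq']
      · show μ₀ ((β * (c.out : MulAut S))⁻¹ x) = _
        rw [mul_inv_rev]
        rfl
    constructor
    · intro h x hx
      show μ₀ ((((b • c).out : F.autGroup S) : MulAut S)⁻¹ x) = _
      rw [hout, h _ (hqS.symm ▸ ((β⁻¹ : MulAut S) x).2)]
      have hf' : f (((β⁻¹ : MulAut S) x : S) : Ω) = x := by
        rw [← hβf _ ((β⁻¹ : MulAut S) x).2, autFun_apply, MulAut.apply_inv_self]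
      rw [← hμ _ _ (hf'.symm ▸ hx)]
      exact congrArg r.μ (Subtype.ext hf')
    · intro h x hx
      have hf' : ((β x : S) : Ω) = f x := by rw [← hβf x x.2, autFun_apply]
      have h1 : ((β x : S) : Ω) ∈ r.P := hrS.symm ▸ (β x).2
      have h2 := h (β x) h1
      change μ₀ ((((b • c).out : F.autGroup S) : MulAut S)⁻¹ (β x)) = _ at h2
      rw [hout, MulAut.inv_apply_self] at h2
      rw [h2, ← hμ x hx (hf' ▸ h1)]
      exact congrArg r.μ (Subtype.ext hf')

theorem sum_flatMap_replicate {ι : Type*} (l : List ι) (k : ι → ℕ) (c : ι → Comp S A)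
    (g : Comp S A → ℕ) :
    ((l.flatMap fun i => List.replicate (k i) (c i)).map g).sum =
      (l.map fun i => k i * g (c i)).sum := by
  induction l with
  | nil => simp
  | cons i l ih => simp [List.flatMap_cons, ih]

theorem step [Finite S] [Finite A] [Fact p.Prime] (hS : IsPGroup p S) (hF : F.IsSaturated p)
    (hZ : Fixed F Z μ₀) {n : ℕ} (hn : n < Nat.card S) {L : List (Comp S A)}
    (hb : Base F p Z μ₀ L) (hL : StableFrom F Z μ₀ L (n + 1)) :
    ∃ L', Base F p Z μ₀ L' ∧ StableFrom F Z μ₀ L' n := by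
  classical
  let T := {q : Pair S A // (Good Z μ₀ q ∧ PLift F μ₀ q) ∧ Nat.card q.P = n}
  haveI : Fintype T := Fintype.ofFinite _
  let sS : Setoid T := ⟨fun a b => SRel a.1 b.1, fun a => SRel.refl _, SRel.symm, SRel.trans⟩
  let sF : Setoid T := ⟨fun a b => PRel F a.1 b.1, fun a => PRel.refl _, PRel.symm, PRel.trans⟩
  haveI : Fintype (Quotient sS) := Fintype.ofFinite _
  have hrep : ∀ c : Quotient sF, ∃ r : Pair S A, PRel F c.out.1 r ∧ IsRep F p r :=
    fun c => exists_rep hS hF _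
  choose rep hrep1 hrep2 using hrep
  let bound : ℕ := ∑ t : T, mq L t.1
  let M : T → ℕ := fun t => mq L (rep (Quotient.mk sF t)) + Nat.card S * bound
  have hcong : ∀ t : T, mq L t.1 ≤ M t ∧ wd t.1 ∣ M t - mq L t.1 := by
    intro t
    have hle : mq L t.1 ≤ M t := by
      have h1 : mq L t.1 ≤ bound := Finset.single_le_sum (f := fun t : T => mq L t.1)
        (fun _ _ => Nat.zero_le _) (Finset.mem_univ t)
      have h2 : bound ≤ Nat.card S * bound := Nat.le_mul_of_pos_left _ Nat.card_pos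
      exact (h1.trans h2).trans (Nat.le_add_left _ _)
    have hrel : PRel F t.1 (rep (Quotient.mk sF t)) :=
      PRel.trans (PRel.symm (Quotient.mk_out (s := sF) t)) (hrep1 _)
    have h1 := wd_dvd_sub_rep hS hF hL t.2.1.1 (by rw [t.2.2]) hrel (hrep2 _)
    have h2 : (wd t.1 : ℤ) ∣ (Nat.card S : ℤ) := by
      refine Int.natCast_dvd_natCast.mpr (dvd_trans ?_ (Subgroup.card_subgroup_dvd_card (W t.1)))
      exact card_W t.1 ▸ dvd_mul_right _ _
    refine ⟨hle, Int.natCast_dvd_natCast.mp ?_⟩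
    rw [Nat.cast_sub hle]
    have e : (M t : ℤ) - mq L t.1 =
        (Nat.card S : ℤ) * bound - ((mq L t.1 : ℤ) - mq L (rep (Quotient.mk sF t))) := by
      show ((mq L (rep (Quotient.mk sF t)) + Nat.card S * bound : ℕ) : ℤ) - _ = _
      push_cast
      ring
    rw [e]
    exact Int.dvd_sub (h2.mul_right (bound : ℤ)) h1
  let k : Quotient sS → ℕ := fun c => (M c.out - mq L c.out.1) / wd c.out.1
  let L' := L ++ (Finset.univ : Finset (Quotient sS)).toList.flatMap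
    fun c => List.replicate (k c) (comp c.out.1)
  have hmark : ∀ q : Pair S A, mq L' q =
      mq L q + ∑ c : Quotient sS, k c * mk' (comp c.out.1) q.P q.μ := fun q => by
    simp only [mq, L', mark_append]
    rw [mark, mark, sum_flatMap_replicate _ k, Finset.sum_map_toList]
  refine ⟨L', ⟨fun C hC => ?_, ?_⟩, fun q r hq hnq hqr => ?_⟩
  · rcases List.mem_append.mp hC with hC | hC
    · exact hb.1 C hC
    · obtain ⟨c, -, hC⟩ := List.mem_flatMap.mp hC
      obtain rfl := List.eq_of_mem_replicate hC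
      obtain ⟨g, hg, hgμ⟩ := c.out.2.1.2
      refine ⟨⟨fun z hz => c.out.2.1.1.1 hz, fun z hz => ?_⟩,
        g, hg.mono (Subgroup.map_subgroupOf_eq_of_le c.out.1.le).le, fun r h => ?_⟩
      · exact c.out.2.1.1.2 (Subgroup.subgroupOfEquivOfLe c.out.1.le z) hz
      · exact hgμ (Subgroup.subgroupOfEquivOfLe c.out.1.le r) h
  · rw [List.map_append, List.sum_append, sum_flatMap_replicate _ k, Finset.sum_map_toList,
      Nat.dvd_add_left ?_]
    · exact hb.2
    · refine Finset.dvd_sum fun c _ => dvd_mul_of_dvd_right ?_ _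
      obtain ⟨j, hj⟩ := hS.index (comp c.out.1).R
      rcases Nat.eq_zero_or_pos j with rfl | hj0
      · exfalso
        rw [pow_zero, Subgroup.index_eq_one] at hj
        have := c.out.2.2
        rw [← card_subgroupOf, show c.out.1.P.subgroupOf S = ⊤ from hj,
          Nat.card_congr Subgroup.topEquiv.toEquiv] at this
        omega
      · rw [hj]
        exact dvd_pow_self p hj0.ne'
  · have hr : Good Z μ₀ r := hqr.good hZ hq
    have hc := hqr.card_eq
    rcases hnq.lt_or_eq with hlt | heq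
    · have hz : ∀ t : Pair S A, n < Nat.card t.P → mq L' t = mq L t := fun t ht => by
        rw [hmark, Finset.sum_eq_zero fun c _ => ?_, add_zero]
        refine mul_eq_zero_of_right _ ((mk'_comp (by rw [c.out.2.2]; exact ht.le)).2 fun hs => ?_)
        have := (hs.pRel (F := F)).card_eq
        rw [c.out.2.2] at this
        omega
      rw [hz q hlt, hz r (hc.symm ▸ hlt)]
      exact hL q r hq hlt hqr
    · have hval : ∀ t : T, mq L' t.1 = M (Quotient.mk sS t).out := by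
        intro t
        have hs : SRel t.1 (Quotient.mk sS t).out.1 := SRel.symm (Quotient.mk_out (s := sS) t)
        rw [hmark, Finset.sum_eq_single (Quotient.mk sS t) (fun c _ hne => ?_) (by simp),
          (mk'_comp (by rw [t.2.2, (Quotient.mk sS t).out.2.2])).1 hs, Nat.div_mul_cancel (hcong _).2,
          hs.mq_eq L, Nat.add_sub_cancel' (hcong _).1]
        refine mul_eq_zero_of_right _ ((mk'_comp (by rw [t.2.2, c.out.2.2])).2 fun hs' => hne ?_)
        exact (Quotient.out_eq c).symm.trans (Quotient.sound (SRel.symm hs'))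
      by_cases hl : PLift F μ₀ q
      swap
      · have hzero : ∀ t : Pair S A, ¬ PLift F μ₀ t → Nat.card t.P = n → mq L' t = 0 := fun t ht htc => by
          rw [hmark, mark_eq_zero_of_not_pLift hb ht, zero_add]
          refine Finset.sum_eq_zero fun c _ => mul_eq_zero_of_right _
            ((mk'_comp (by rw [c.out.2.2, htc])).2 fun hs => ht ?_)
          exact hs.pRel.pLift c.out.2.1.2
        rw [hzero q hl heq.symm, hzero r (fun h => hl (hqr.pLift h)) (hc.trans heq.symm)]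
      have hlr : PLift F μ₀ r := hqr.symm.pLift hl
      rw [hval ⟨q, ⟨hq, hl⟩, heq.symm⟩, hval ⟨r, ⟨hr, hlr⟩, hc.trans heq.symm⟩]
      have e : Quotient.mk sF (Quotient.mk sS (⟨q, ⟨hq, hl⟩, heq.symm⟩ : T)).out =
          Quotient.mk sF (Quotient.mk sS (⟨r, ⟨hr, hlr⟩, hc.trans heq.symm⟩ : T)).out :=
        Quotient.sound ((SRel.pRel (Quotient.mk_out (s := sS) _)).trans
          (hqr.trans (SRel.pRel (SRel.symm (Quotient.mk_out (s := sS) _)))))
      simp only [M, e]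

/-- A monomial set with marks stable on all good pairs, of degree prime to `p`. -/
theorem exists_stable [Finite S] [Finite A] [Fact p.Prime] (hS : IsPGroup p S)
    (hF : F.IsSaturated p) (μ₀ : S →* A) (hZ : Fixed F Z μ₀) :
    ∃ L, Base F p Z μ₀ L ∧ StableFrom F Z μ₀ L 0 := by
  refine Nat.decreasingInduction' (P := fun n => ∃ L, Base F p Z μ₀ L ∧ StableFrom F Z μ₀ L n)
    (fun k hk _ ⟨L, hb, hL⟩ => step hS hF hZ hk hb hL) (Nat.zero_le (Nat.card S))
    (base_top hS hF μ₀ hZ)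

end Cfsg.Lib.Fusion.Transfer
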