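import Cfsg.Agent.Fusion.Transfer.Stabilize

/-!
The transfer of a saturated fusion system: a stable homomorphism on `S` whose values on `Z` are a power, prime
to `p`, of given ones, and which agrees up to that power with `μ₀` wherever `μ₀` is stable.
-/

set_option autoImplicit false

namespace Cfsg.Lib.Fusion.Transfer

open Cfsg Cfsg.FusionSystem MulAction

variable {Ω : Type*} [Group Ω] {S : Subgroup Ω} {F : FusionSystem S} {A : Type*} [CommGroup A]
  {Z : Subgroup Ω} {μ₀ : S →* A} {p : ℕ} {C : Comp S A}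

/-- The length of the orbit of `c` under `x`. -/
noncomputable def period (C : Comp S A) (x : S) (c : S ⧸ C.R) : ℕ :=
  Function.minimalPeriod (x • ·) c

/-- The number of orbits of length `ℓ` and value `a`. -/
noncomputable def orbCount (C : Comp S A) (x : S) (ℓ : ℕ) (a : A) : ℕ :=
  Nat.card {q : orbitRel.Quotient (Subgroup.zpowers x) (S ⧸ C.R) //
    period C x q.out = ℓ ∧ cval C (x ^ ℓ) q.out = a}

/-- The number of points in orbits of length `ℓ` and value `a`. -/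
noncomputable def pointCount (C : Comp S A) (x : S) (ℓ : ℕ) (a : A) : ℕ :=
  Nat.card {c : S ⧸ C.R // period C x c = ℓ ∧ cval C (x ^ ℓ) c = a}

/-- The number of points fixed by `x ^ ℓ` with value `b`. -/
noncomputable def cnt (C : Comp S A) (x : S) (ℓ : ℕ) (b : A) : ℕ :=
  Nat.card {c : S ⧸ C.R // x ^ ℓ • c = c ∧ cval C (x ^ ℓ) c = b}

theorem period_pow_smul (x : S) (c : S ⧸ C.R) : x ^ period C x c • c = c :=
  pow_smul_eq_iff_minimalPeriod_dvd.mpr dvd_rfl

theorem period_zpow_smul (x : S) (i : ℤ) (c : S ⧸ C.R) :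
    period C x (x ^ i • c) = period C x c := by
  have key : ∀ n : ℕ, x ^ n • (x ^ i • c) = x ^ i • c ↔ x ^ n • c = c := fun n => by
    rw [← mul_smul, ← zpow_natCast, ← zpow_add, add_comm, zpow_add, mul_smul, smul_left_cancel_iff,
      zpow_natCast]
  refine Nat.dvd_antisymm (pow_smul_eq_iff_minimalPeriod_dvd.mp ?_)
    (pow_smul_eq_iff_minimalPeriod_dvd.mp ?_)
  · exact (key _).mpr (period_pow_smul x c)
  · exact (key _).mp (period_pow_smul x _)

theorem cval_zpow_smul (x : S) (i : ℤ) {ℓ : ℕ} {c : S ⧸ C.R} (h : x ^ ℓ • c = c) :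
    cval C (x ^ ℓ) (x ^ i • c) = cval C (x ^ ℓ) c := by
  have := cval_smul (u := x ^ i) h
  rwa [show x ^ i * x ^ ℓ * (x ^ i)⁻¹ = x ^ ℓ by
    rw [← zpow_natCast, ← zpow_add, ← zpow_neg, ← zpow_add]; simp] at this

theorem pointCount_eq [Finite S] (x : S) (ℓ : ℕ) (a : A) :
    pointCount C x ℓ a = ℓ * orbCount C x ℓ a := by
  classical
  haveI : Fintype {q : orbitRel.Quotient (Subgroup.zpowers x) (S ⧸ C.R) //
    period C x q.out = ℓ ∧ cval C (x ^ ℓ) q.out = a} := Fintype.ofFinite _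
  let e := Subgroup.quotientEquivSigmaZMod C.R x
  have h1 : {c : S ⧸ C.R // period C x c = ℓ ∧ cval C (x ^ ℓ) c = a} ≃
      {σ : Σ q : orbitRel.Quotient (Subgroup.zpowers x) (S ⧸ C.R),
        ZMod (Function.minimalPeriod (x • ·) q.out) //
        period C x σ.1.out = ℓ ∧ cval C (x ^ ℓ) σ.1.out = a} :=
    Equiv.subtypeEquiv e fun c => by
      have hc : c = x ^ ((e c).2.cast : ℤ) • (e c).1.out := by
        rw [← Subgroup.quotientEquivSigmaZMod_symm_apply]
        exact (e.symm_apply_apply c).symm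
      conv_lhs => rw [hc, period_zpow_smul]
      refine and_congr_right fun h => ?_
      rw [cval_zpow_smul x _ (h ▸ period_pow_smul x _)]
  rw [pointCount, Nat.card_congr (h1.trans (Equiv.subtypeSigmaEquiv
    (fun q : orbitRel.Quotient (Subgroup.zpowers x) (S ⧸ C.R) =>
      ZMod (Function.minimalPeriod (x • ·) q.out))
    fun q => period C x q.out = ℓ ∧ cval C (x ^ ℓ) q.out = a)), Nat.card_sigma]
  simp only [Nat.card_zmod]
  rw [Finset.sum_congr rfl fun q _ => (show Function.minimalPeriod (x • ·) q.1.out = ℓ from q.2.1),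
    Finset.sum_const, smul_eq_mul, orbCount, Nat.card_eq_fintype_card, mul_comm, Finset.card_univ]

theorem transfer_eq_prod [Finite S] [Fintype A] (x : S) {n : ℕ} (hn : orderOf x ≤ n) :
    MonoidHom.transfer C.ν x =
      ∏ t ∈ Finset.range (n + 1) ×ˢ (Finset.univ : Finset A), t.2 ^ orbCount C x t.1 t.2 := by
  classical
  haveI : Fintype (Quotient (orbitRel (Subgroup.zpowers x) (S ⧸ C.R))) := Fintype.ofFinite _
  rw [MonoidHom.transfer_eq_prod_quotient_orbitRel_zpowers_quot]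
  have hmaps : ∀ q ∈ (Finset.univ : Finset (Quotient (orbitRel (Subgroup.zpowers x) (S ⧸ C.R)))),
      (period C x q.out, cval C (x ^ period C x q.out) q.out) ∈
        Finset.range (n + 1) ×ˢ (Finset.univ : Finset A) := fun q _ => by
    refine Finset.mem_product.mpr ⟨Finset.mem_range.mpr (Nat.lt_succ_of_le ?_), Finset.mem_univ _⟩
    refine le_trans (Nat.le_of_dvd (orderOf_pos x) (pow_smul_eq_iff_minimalPeriod_dvd.mp ?_)) hn
    rw [pow_orderOf_eq_one, one_smul]
  rw [← Finset.prod_fiberwise_of_maps_to hmaps]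
  refine Finset.prod_congr rfl fun t _ => ?_
  rw [orbCount, Nat.card_eq_fintype_card, Fintype.card_subtype, Finset.prod_congr rfl (g := fun _ => t.2)
    fun q hq => ?_, Finset.prod_const]
  · congr 1
    refine congrArg Finset.card (Finset.filter_congr fun q _ => ?_)
    rw [Prod.ext_iff]
    exact ⟨fun h => ⟨h.1, h.1 ▸ h.2⟩, fun h => ⟨h.1, h.1.symm ▸ h.2⟩⟩
  · obtain ⟨-, hq⟩ := Finset.mem_filter.mp hq
    rw [← hq]
    show _ = cval C _ q.out
    rw [cval, dif_pos]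
    rfl

/-- The pairs contributing to `cnt` at `ℓ` and `b`. -/
noncomputable def below [Fintype A] [DecidableEq A] (ℓ : ℕ) (b : A) : Finset (ℕ × A) :=
  ((Nat.divisors ℓ) ×ˢ (Finset.univ : Finset A)).filter fun t => t.2 ^ (ℓ / t.1) = b

theorem cnt_eq_sum [Finite S] [Fintype A] [DecidableEq A] (x : S) {ℓ : ℕ} (hℓ : ℓ ≠ 0) (b : A) :
    cnt C x ℓ b = ∑ t ∈ below ℓ b, pointCount C x t.1 t.2 := by
  classical
  haveI : Fintype (S ⧸ C.R) := Fintype.ofFinite _
  simp only [cnt, pointCount, Nat.card_eq_fintype_card, Fintype.card_subtype]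
  have hval : ∀ c : S ⧸ C.R, period C x c ∣ ℓ →
      cval C (x ^ ℓ) c = cval C (x ^ period C x c) c ^ (ℓ / period C x c) := fun c h => by
    rw [← cval_pow (period_pow_smul x c), ← pow_mul, Nat.mul_div_cancel' h]
  rw [Finset.card_eq_sum_card_fiberwise (f := fun c => (period C x c, cval C (x ^ period C x c) c))
    (t := below ℓ b) fun c hc => ?_]
  · refine Finset.sum_congr rfl fun t ht => congrArg Finset.card ?_
    simp only [below, Finset.mem_filter, Finset.mem_product, Nat.mem_divisors] at ht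
    rw [Finset.filter_filter]
    refine Finset.filter_congr fun c _ => ⟨fun h => ?_, fun h => ?_⟩
    · obtain ⟨-, h2⟩ := h
      rw [← h2]
      exact ⟨rfl, rfl⟩
    · obtain ⟨h1, h2⟩ := h
      have hd : period C x c ∣ ℓ := h1 ▸ ht.1.1.1
      refine ⟨⟨pow_smul_eq_iff_minimalPeriod_dvd.mpr hd, ?_⟩, by rw [h1, h2]⟩
      rw [hval c hd, h1, h2, ht.2]
  · obtain ⟨h1, h2⟩ := (Finset.mem_filter.mp hc).2
    have hd : period C x c ∣ ℓ := pow_smul_eq_iff_minimalPeriod_dvd.mp h1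
    simp only [below, Finset.coe_filter, Set.mem_ofPred_eq, Finset.mem_product, Nat.mem_divisors,
      Finset.mem_univ, and_true]
    exact ⟨⟨hd, hℓ⟩, (hval c hd).symm.trans h2⟩

/-- Fixed points of a power, by homomorphisms on the subgroup it generates with `Z`. -/
theorem cnt_eq_mk' [Finite S] [Finite A] (hc : ∀ z ∈ Z, ∀ s ∈ S, s * z * s⁻¹ ∈ Z)
    (hR : Z.subgroupOf S ≤ C.R) (hZS : Z ≤ S) (x : S) (j : ℕ) (b : A) {K : Subgroup Ω}
    (hK : K = Subgroup.zpowers ((x ^ j : S) : Ω) ⊔ Z) (hxK : ((x ^ j : S) : Ω) ∈ K)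
    [Fintype (K →* A)] [DecidablePred fun μ : K →* A => μ ⟨_, hxK⟩ = b] :
    cnt C x j b = ∑ μ ∈ Finset.univ.filter (fun μ : K →* A => μ ⟨_, hxK⟩ = b), mk' C K μ := by
  have hKS : K ≤ S := hK ▸ sup_le (Subgroup.zpowers_le.mpr (x ^ j).2) hZS
  rw [← card_fix_where hKS]
  refine Nat.card_congr (Equiv.subtypeEquivRight fun c => ⟨fun h => ?_, fun ⟨μ, hμ, h⟩ =>
    ⟨(h _ hxK).1, (h _ hxK).2.trans hμ⟩⟩)
  have hle : K ≤ (MulAction.stabilizer S c).map S.subtype := by
    rw [hK]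
    refine sup_le (Subgroup.zpowers_le.mpr ⟨x ^ j, h.1, rfl⟩) fun z hz => ⟨⟨z, hZS hz⟩, ?_, rfl⟩
    induction c using QuotientGroup.induction_on with
    | H s =>
      refine smul_mk_eq_iff.mpr ?_
      refine hR (show (s : Ω)⁻¹ * z * s ∈ Z from ?_)
      simpa using hc z hz (s : Ω)⁻¹ (S.inv_mem s.2)
  obtain ⟨μ, hμ⟩ := exists_fix hKS (c := c) fun y hy => by
    obtain ⟨y', hy', e⟩ := hle hy
    rw [← (Subtype.ext e : y' = y)]
    exact hy'
  exact ⟨μ, (hμ _ hxK).2.symm.trans h.2, hμ⟩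

/-- The transfer followed by a homomorphism agreeing with `ψ` on the conjugates of the powers of `x`. -/
theorem map_transfer_eq_pow [Finite S] {B : Type*} [CommGroup B] (q : A →* B) (ψ : S →* B) (x : S)
    (h : ∀ (ℓ : ℕ) (g : S) (hg : g⁻¹ * x ^ ℓ * g ∈ C.R), q (C.ν ⟨_, hg⟩) = ψ (g⁻¹ * x ^ ℓ * g)) :
    q (MonoidHom.transfer C.ν x) = ψ x ^ C.R.index := by
  haveI : Fintype (Quotient (orbitRel (Subgroup.zpowers x) (S ⧸ C.R))) := Fintype.ofFinite _
  rw [MonoidHom.transfer_eq_prod_quotient_orbitRel_zpowers_quot, map_prod,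
    Subgroup.index_eq_sum_minimalPeriod C.R x, ← Finset.prod_pow_eq_pow_sum]
  refine Finset.prod_congr rfl fun o _ => ?_
  rw [h, map_mul, map_mul, map_inv, inv_mul_cancel_comm, map_pow]

/-- The product of the transfers of a stable list of pieces is stable. -/
theorem transfer_stable [Finite S] [Finite A] (hZ : Fixed F Z μ₀) {L : List (Comp S A)}
    (hL : ∀ C ∈ L, (Z.subgroupOf S ≤ C.R ∧ ∀ z : C.R, ((z : S) : Ω) ∈ Z → C.ν z = μ₀ z) ∧ CLift F μ₀ C)
    (hst : StableFrom F Z μ₀ L 0) :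
    ∀ (P : Subgroup Ω) (f : Ω → Ω) (hf : IsMap F P f) (x : Ω) (hx : x ∈ P),
      (L.map fun C => MonoidHom.transfer C.ν ⟨f x, hf.mem_S hx⟩).prod =
        (L.map fun C => MonoidHom.transfer C.ν ⟨x, hf.le hx⟩).prod := by
  classical
  haveI : Fintype A := Fintype.ofFinite A
  have hc : ∀ z ∈ Z, ∀ s ∈ S, s * z * s⁻¹ ∈ Z := fun z hz s hs => hZ.conj_mem hs hz
  intro P f hf a ha
  obtain ⟨k, hk, hkf, hki, -⟩ := hZ.2 P f hf
  have hkZ : ∀ z ∈ Z, k z ∈ Z := fun z hz => hki.le (IsMap.apply_mem_img hz)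
  have key : ∀ (j : ℕ) (b : A),
      (L.map fun C => cnt C ⟨f a, hf.mem_S ha⟩ j b).sum = (L.map fun C => cnt C ⟨a, hf.le ha⟩ j b).sum := by
    intro j b
    set K := Subgroup.zpowers (a ^ j) ⊔ Z with hKdef
    set K' := Subgroup.zpowers ((f a) ^ j) ⊔ Z with hK'def
    have hKP : K ≤ P ⊔ Z := sup_le_sup_right (Subgroup.zpowers_le.mpr (P.pow_mem ha j)) Z
    have hg : IsMap F K k := hk.mono hKP
    have hka : k (a ^ j) = (f a) ^ j := by rw [hkf _ (P.pow_mem ha j), hf.map_pow ha]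
    have haK : a ^ j ∈ K := Subgroup.mem_sup_left (Subgroup.mem_zpowers _)
    have haK' : (f a) ^ j ∈ K' := Subgroup.mem_sup_left (Subgroup.mem_zpowers _)
    have hi : img K k = K' := by
      refine le_antisymm (IsMap.img_le_iff.mpr ?_)
        (sup_le (Subgroup.zpowers_le.mpr (hka ▸ IsMap.apply_mem_img haK)) fun z hz => ?_)
      · let X : Subgroup Ω :=
          { carrier := {y | y ∈ K ∧ k y ∈ K'}
            one_mem' := ⟨K.one_mem, by rw [hg.map_one]; exact K'.one_mem⟩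
            mul_mem' := fun {u v} hu hv => ⟨K.mul_mem hu.1 hv.1, by
              rw [hg.map_mul hu.1 hv.1]; exact K'.mul_mem hu.2 hv.2⟩
            inv_mem' := fun {u} hu => ⟨K.inv_mem hu.1, by
              rw [hg.map_inv hu.1]; exact K'.inv_mem hu.2⟩ }
        have hX : K ≤ X := sup_le (Subgroup.zpowers_le.mpr ⟨haK, hka ▸ haK'⟩) fun z hz =>
          ⟨Subgroup.mem_sup_right hz, Subgroup.mem_sup_right (hkZ z hz)⟩
        exact fun y hy => (hX hy).2
      · exact img_mono (le_sup_right : Z ≤ K) k (hki.ge hz)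
    haveI := finite_of_le hg.le
    haveI := finite_of_le (hi ▸ hg.img_le)
    haveI := finite_hom (A := A) (K := K)
    haveI := finite_hom (A := A) (K := K')
    haveI : Fintype (K →* A) := Fintype.ofFinite _
    haveI : Fintype (K' →* A) := Fintype.ofFinite _
    have e1 : ∀ C ∈ L, cnt C ⟨f a, hf.mem_S ha⟩ j b =
        ∑ μ ∈ Finset.univ.filter (fun μ : K' →* A => μ ⟨_, haK'⟩ = b), mk' C K' μ := fun C hC =>
      cnt_eq_mk' hc (hL C hC).1.1 hZ.1 ⟨f a, hf.mem_S ha⟩ j b (K := K') rfl haK'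
    have e2 : ∀ C ∈ L, cnt C ⟨a, hf.le ha⟩ j b =
        ∑ μ ∈ Finset.univ.filter (fun μ : K →* A => μ ⟨_, haK⟩ = b), mk' C K μ := fun C hC =>
      cnt_eq_mk' hc (hL C hC).1.1 hZ.1 ⟨a, hf.le ha⟩ j b (K := K) rfl haK
    rw [List.map_congr_left e1, List.map_congr_left e2, list_sum_finset, list_sum_finset]
    -- marks vanish on pairs which are not good
    have hbad : ∀ (K₀ : Subgroup Ω) (hK₀ : K₀ ≤ S) (μ : K₀ →* A), Z ≤ K₀ →
        ¬ Good Z μ₀ ⟨K₀, hK₀, μ⟩ → mark L K₀ μ = 0 := by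
      intro K₀ hK₀ μ hZK hbad
      refine List.sum_eq_zero fun t ht => ?_
      obtain ⟨C, hC, rfl⟩ := List.mem_map.mp ht
      haveI : IsEmpty {c : S ⧸ C.R // Fix C K₀ μ c} := by
        refine ⟨fun ⟨c, h⟩ => hbad ⟨hZK, fun z hz => ?_⟩⟩
        induction c using QuotientGroup.induction_on with
        | H s =>
          obtain ⟨h1, h2⟩ := h ⟨z, hK₀ z.2⟩ z.2
          rw [cval_eq (smul_mk_eq_iff.mp h1)] at h2
          rw [show μ z = C.ν ⟨_, smul_mk_eq_iff.mp h1⟩ from h2.symm]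
          rw [(hL C hC).1.2 _ (show ((s⁻¹ * ⟨z, hK₀ z.2⟩ * s : S) : Ω) ∈ Z by
            simpa using hc z hz (s : Ω)⁻¹ (S.inv_mem s.2))]
          show μ₀ (s⁻¹ * ⟨z, hK₀ z.2⟩ * s) = _
          rw [map_mul, map_mul, map_inv, inv_mul_cancel_comm]
          rfl
      exact Nat.card_of_isEmpty
    have hgood : ∀ (K₀ : Subgroup Ω) (hK₀ : K₀ ≤ S) (Q : (K₀ →* A) → Prop) [DecidablePred Q]
        [Fintype (K₀ →* A)], Z ≤ K₀ → ∑ μ ∈ Finset.univ.filter Q, mark L K₀ μ =
          ∑ μ ∈ Finset.univ.filter (fun μ => Q μ ∧ Good Z μ₀ ⟨K₀, hK₀, μ⟩), mark L K₀ μ := by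
      intro K₀ hK₀ Q _ _ hZK
      refine (Finset.sum_subset (fun μ hμ => ?_) fun μ hμ hμ' => ?_).symm
      · exact Finset.mem_filter.mpr ⟨Finset.mem_univ _, (Finset.mem_filter.mp hμ).2.1⟩
      · refine hbad K₀ hK₀ μ hZK fun hg' => hμ' ?_
        exact Finset.mem_filter.mpr ⟨Finset.mem_univ _, (Finset.mem_filter.mp hμ).2, hg'⟩
    show ∑ μ ∈ _, mark L K' μ = ∑ μ ∈ _, mark L K μ
    rw [hgood K' (hi ▸ hg.img_le) _ le_sup_right, hgood K hg.le _ le_sup_right]
    refine (sum_marks_map hst hg hi (Nat.zero_le _) _ _ (fun μ h => h.2) fun μ => ?_).symm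
    have e : hg.equiv hi ⟨_, haK⟩ = ⟨_, haK'⟩ := Subtype.ext hka
    have hrel : PRel F ⟨K, hg.le, μ⟩ ⟨K', hi ▸ hg.img_le, μ.comp (hg.equiv hi).symm.toMonoidHom⟩ :=
      ⟨k, hg, hi, fun x hx hx' => by
        show μ ((hg.equiv hi).symm ⟨k x, hx'⟩) = μ ⟨x, hx⟩
        rw [show (⟨k x, hx'⟩ : K') = hg.equiv hi ⟨x, hx⟩ from Subtype.ext rfl,
          MulEquiv.symm_apply_apply]⟩
    refine and_congr ?_ ⟨hrel.good hZ, hrel.symm.good hZ⟩
    show _ ↔ μ ((hg.equiv hi).symm ⟨_, haK'⟩) = b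
    rw [← e, MulEquiv.symm_apply_apply]
  -- the numbers of orbits agree
  have horb : ∀ (ℓ : ℕ), ℓ ≠ 0 → ∀ b : A,
      (L.map fun C => orbCount C ⟨f a, hf.mem_S ha⟩ ℓ b).sum =
        (L.map fun C => orbCount C ⟨a, hf.le ha⟩ ℓ b).sum := by
    intro ℓ
    induction ℓ using Nat.strong_induction_on with
    | _ ℓ ih =>
      intro hℓ b
      have h := key ℓ b
      simp only [cnt_eq_sum _ hℓ, pointCount_eq, list_sum_finset, List.sum_map_mul_left] at h
      have hmem : (ℓ, b) ∈ below ℓ b := by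
        simp [below, hℓ, Nat.div_self (Nat.pos_of_ne_zero hℓ)]
      rw [← Finset.add_sum_erase _ _ hmem, ← Finset.add_sum_erase _ _ hmem] at h
      have hrest : ∀ t ∈ (below ℓ b).erase (ℓ, b),
          t.1 * (L.map fun C => orbCount C ⟨f a, hf.mem_S ha⟩ t.1 t.2).sum =
            t.1 * (L.map fun C => orbCount C ⟨a, hf.le ha⟩ t.1 t.2).sum := fun t ht => by
        obtain ⟨hne, ht⟩ := Finset.mem_erase.mp ht
        simp only [below, Finset.mem_filter, Finset.mem_product, Nat.mem_divisors] at ht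
        have hlt : t.1 < ℓ := lt_of_le_of_ne (Nat.le_of_dvd (Nat.pos_of_ne_zero hℓ) ht.1.1.1)
          fun e => hne (by
            have h2 := ht.2
            rw [e, Nat.div_self (Nat.pos_of_ne_zero hℓ), pow_one] at h2
            exact Prod.ext e h2)
        rw [ih t.1 hlt (fun e => by simp [e] at ht) t.2]
      rw [Finset.sum_congr rfl hrest] at h
      exact Nat.eq_of_mul_eq_mul_left (Nat.pos_of_ne_zero hℓ) (add_right_cancel h)
  have hord : ∀ y : S, orderOf y ≤ Nat.card S := fun y =>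
    Nat.le_of_dvd Nat.card_pos (orderOf_dvd_natCard y)
  show (L.map fun C => MonoidHom.transfer C.ν _).prod = (L.map fun C => MonoidHom.transfer C.ν _).prod
  simp only [transfer_eq_prod _ (hord _)]
  have hswap : ∀ (M : List (Comp S A)) (y : S) (s : Finset (ℕ × A)),
      (M.map fun C => ∏ t ∈ s, t.2 ^ orbCount C y t.1 t.2).prod =
        ∏ t ∈ s, t.2 ^ (M.map fun C => orbCount C y t.1 t.2).sum := by
    intro M y s
    induction M with
    | nil => simp
    | cons C M ih => simp [ih, Finset.prod_mul_distrib, pow_add]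
  rw [hswap, hswap]
  refine Finset.prod_congr rfl fun t _ => ?_
  rcases eq_or_ne t.1 0 with h0 | h0
  · have hz : ∀ (C : Comp S A) (y : S), orbCount C y t.1 t.2 = 0 := fun C y => by
      haveI : IsEmpty {q : orbitRel.Quotient (Subgroup.zpowers y) (S ⧸ C.R) //
          period C y q.out = t.1 ∧ cval C (y ^ t.1) q.out = t.2} := by
        refine ⟨fun ⟨q, hq, _⟩ => ?_⟩
        have := pow_smul_eq_iff_minimalPeriod_dvd.mp
          (show y ^ orderOf y • q.out = q.out by rw [pow_orderOf_eq_one, one_smul])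
        rw [show Function.minimalPeriod (y • ·) q.out = 0 from hq.trans h0, zero_dvd_iff] at this
        exact (orderOf_pos y).ne' this
      exact Nat.card_of_isEmpty
    simp [hz]
  · rw [horb t.1 h0 t.2]


/-- The transfer of a saturated fusion system relative to a subgroup. -/
theorem exists_transfer_aux [Finite S] [Finite A] [Fact p.Prime] (hS : IsPGroup p S)
    (hF : F.IsSaturated p) (μ₀ : S →* A) (hZ : Fixed F Z μ₀) :
    ∃ τ : S →* A, (∀ (P : Subgroup Ω) (f : Ω → Ω) (hf : IsMap F P f) (x : Ω) (hx : x ∈ P),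
        τ ⟨f x, hf.mem_S hx⟩ = τ ⟨x, hf.le hx⟩) ∧
      ∃ N : ℕ, ¬ p ∣ N ∧ (∀ z : S, (z : Ω) ∈ Z → τ z = μ₀ z ^ N) ∧
        ∀ {B : Type*} [CommGroup B] (q : A →* B),
          (∀ (P : Subgroup Ω) (f : Ω → Ω) (hf : IsMap F P f) (x : Ω) (hx : x ∈ P),
            q (μ₀ ⟨f x, hf.mem_S hx⟩) = q (μ₀ ⟨x, hf.le hx⟩)) →
          ∀ x : S, q (τ x) = q (μ₀ x) ^ N := by
  classical
  haveI : Fintype A := Fintype.ofFinite A
  obtain ⟨L, ⟨hL, hN⟩, hst⟩ := exists_stable hS hF μ₀ hZ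
  have hc : ∀ z ∈ Z, ∀ s ∈ S, s * z * s⁻¹ ∈ Z := fun z hz s hs => hZ.conj_mem hs hz
  refine ⟨MonoidHom.mk' (fun x => (L.map fun C => MonoidHom.transfer C.ν x).prod) fun a b => ?_,
    ?_, (L.map fun C => C.R.index).sum, hN, fun z hz => ?_, fun {B} _ q hq x => ?_⟩
  · simp [List.prod_map_mul]
  rotate_left
  · show (L.map fun C => MonoidHom.transfer C.ν z).prod = _
    have : ∀ C ∈ L, MonoidHom.transfer C.ν z = μ₀ z ^ C.R.index := fun C hC => by
      refine map_transfer_eq_pow (MonoidHom.id A) μ₀ z fun ℓ g hg => (hL C hC).1.2 _ ?_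
      have h1 : (z : Ω) ^ ℓ ∈ Z := Z.pow_mem hz ℓ
      simpa using hc _ h1 (g : Ω)⁻¹ (S.inv_mem g.2)
    rw [List.map_congr_left this]
    clear hL hN hst this
    induction L with
    | nil => simp
    | cons C L ih => simp [ih, pow_add]
  · show q (L.map fun C => MonoidHom.transfer C.ν x).prod = _
    have : ∀ C ∈ L, q (MonoidHom.transfer C.ν x) = q (μ₀ x) ^ C.R.index := fun C hC => by
      obtain ⟨g, hg, hgν⟩ := (hL C hC).2
      refine map_transfer_eq_pow q (q.comp μ₀) x fun ℓ u hu => ?_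
      have hmem : ((u⁻¹ * x ^ ℓ * u : S) : Ω) ∈ C.R.map S.subtype := ⟨_, hu, rfl⟩
      rw [hgν ⟨_, hu⟩ (hg.mem_S hmem), hq _ g hg _ hmem]
      rfl
    rw [map_list_prod, List.map_map, List.map_congr_left (show ∀ C ∈ L,
      (q ∘ fun C : Comp S A => MonoidHom.transfer C.ν x) C = q (μ₀ x) ^ C.R.index from this)]
    clear hL hN hst this
    induction L with
    | nil => simp
    | cons C L ih => simp [ih, pow_add]
  exact transfer_stable hZ hL hst

/-- The transfer of a saturated fusion system relative to a central subgroup. -/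
theorem exists_transfer [Finite S] [Finite A] [Fact p.Prime] (hS : IsPGroup p S)
    (hF : F.IsSaturated p) (hZ : F.IsCentral Z) (μ₀ : S →* A) :
    ∃ τ : S →* A, (∀ (P : Subgroup Ω) (f : Ω → Ω) (hf : IsMap F P f) (x : Ω) (hx : x ∈ P),
        τ ⟨f x, hf.mem_S hx⟩ = τ ⟨x, hf.le hx⟩) ∧
      ∃ N : ℕ, ¬ p ∣ N ∧ ∀ z : S, (z : Ω) ∈ Z → τ z = μ₀ z ^ N := by
  obtain ⟨τ, h1, N, h2, h3, -⟩ :=
    exists_transfer_aux.{_, _, 0} hS hF μ₀ (fixed_of_central hZ μ₀)
  exact ⟨τ, h1, N, h2, h3⟩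

end Cfsg.Lib.Fusion.Transfer
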