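import Cfsg.Agent.Fusion.Transfer.Focal
import Cfsg.Agent.Fusion.Hyperfocal

/-!
Thompson's transfer lemma for saturated fusion systems.
-/

set_option autoImplicit false
set_option linter.unusedSectionVars false

namespace Cfsg.Lib.Fusion.Transfer

open Cfsg Cfsg.FusionSystem MulAction

variable {Ω : Type*} [Group Ω] {S : Subgroup Ω} {F : FusionSystem S} [Finite S]

/-- The transfer of an involution with all its well placed conjugates outside a maximal subgroup. -/
theorem notMem_focal_of_fullyNormalized (hS : IsPGroup 2 S) (hF : F.IsSaturated 2)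
    {T : Subgroup Ω} (hT : T.relIndex S = 2) (i : Ω) (hi : i ∈ S) (hi2 : orderOf i = 2)
    (h : ∀ j : Ω, F.IsConjElt i j → F.IsFullyNormalized (Subgroup.zpowers j) → j ∉ T) :
    i ∉ F.focalSubgroup := by
  classical
  have : Fact (Nat.Prime 2) := ⟨Nat.prime_two⟩
  set N : Subgroup S := T.subgroupOf S
  have hidx : N.index = 2 := hT
  have : N.Normal := Subgroup.normal_of_index_eq_two hidx
  have hcard : Nat.card (S ⧸ N) = 2 := by rw [← Subgroup.index_eq_card]; exact hidx
  have hcyc : IsCyclic (S ⧸ N) := isCyclic_of_prime_card hcard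
  letI : CommGroup (S ⧸ N) :=
    { (inferInstance : Group (S ⧸ N)) with mul_comm := fun a b => IsCyclic.commGroup.mul_comm a b }
  haveI : Fintype (S ⧸ N) := Fintype.ofFinite _
  set μ₀ : S →* S ⧸ N := QuotientGroup.mk' N
  have hZ : Fixed F (⊥ : Subgroup Ω) μ₀ := by
    refine ⟨bot_le, fun P f hf => ⟨f, by rwa [sup_bot_eq], fun _ _ => rfl, ?_, fun z hz _ _ => ?_⟩⟩
    · exact eq_bot_iff.mpr (IsMap.img_le_iff.mpr fun x hx => by
        rw [Subgroup.mem_bot.mp hx, hf.map_one]; exact one_mem _)
    · exact congrArg μ₀ (Subtype.ext (by simp [Subgroup.mem_bot.mp hz, hf.map_one]))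
  obtain ⟨L, ⟨hL, hodd⟩, hst⟩ := exists_stable hS hF μ₀ hZ
  let τ : S →* S ⧸ N := MonoidHom.mk' (fun x => (L.map fun C => MonoidHom.transfer C.ν x).prod)
    fun a b => by simp [List.prod_map_mul]
  have hτ := transfer_stable hZ hL hst
  intro hfoc
  obtain ⟨s, hs, hsi⟩ := focalSubgroup_le_ker (τ := τ) hτ hfoc
  obtain rfl : s = ⟨i, hi⟩ := Subtype.ext hsi
  set x : S := ⟨i, hi⟩
  -- the value `1` occurs an even number of times
  have hcnt : ∀ C ∈ L, ∀ (y : S), orderOf y = 2 →
      cnt C y 1 1 = mk' C (Subgroup.zpowers (y : Ω)) 1 := by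
    intro C _ y hy
    refine Nat.card_congr (Equiv.subtypeEquivRight fun c => ⟨fun hc w hw => ?_, fun hc => ?_⟩)
    · obtain ⟨k, hk⟩ := Subgroup.mem_zpowers_iff.mp hw
      have hwk : w = y ^ k := Subtype.ext (by rw [Subgroup.coe_zpow]; exact hk.symm)
      rcases Int.even_or_odd k with ⟨m, hm⟩ | ⟨m, hm⟩
      · have h1 : w = 1 := by
          rw [hwk, hm, ← two_mul, zpow_mul, zpow_ofNat, show y ^ 2 = 1 from hy ▸ pow_orderOf_eq_one y,
            one_zpow]
        subst h1
        exact ⟨one_smul _ _, cval_one c⟩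
      · have h1 : w = y := by
          rw [hwk, hm, zpow_add, zpow_one, zpow_mul, zpow_ofNat,
            show y ^ 2 = 1 from hy ▸ pow_orderOf_eq_one y, one_zpow, one_mul]
        subst h1
        rw [pow_one] at hc
        exact hc
    · rw [pow_one]
      exact hc y (Subgroup.mem_zpowers _)
  obtain ⟨Q, hconj, hQ⟩ := exists_fullyNormalized (F := F) (Subgroup.zpowers_le.mpr hi)
  obtain ⟨f, hf, hfi⟩ := isConj_iff.mp hconj
  set j := f i
  have hjS : j ∈ S := hf.mem_S (Subgroup.mem_zpowers i)
  have hQj : Q = Subgroup.zpowers j := by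
    rw [← hfi]
    refine le_antisymm (IsMap.img_le_iff.mpr ?_)
      (Subgroup.zpowers_le.mpr (IsMap.apply_mem_img (Subgroup.mem_zpowers i)))
    rintro _ ⟨k, rfl⟩
    rcases Int.even_or_odd k with ⟨m, hm⟩ | ⟨m, hm⟩
    · show f (i ^ k) ∈ _
      rw [hm, ← two_mul, zpow_mul, zpow_ofNat, show i ^ 2 = 1 from hi2 ▸ pow_orderOf_eq_one i, one_zpow,
        hf.map_one]
      exact one_mem _
    · show f (i ^ k) ∈ _
      rw [hm, zpow_add, zpow_one, zpow_mul, zpow_ofNat, show i ^ 2 = 1 from hi2 ▸ pow_orderOf_eq_one i,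
        one_zpow, one_mul]
      exact Subgroup.mem_zpowers _
  have hj2 : orderOf j = 2 := by
    rw [← Nat.card_zpowers, ← hQj, ← hfi, hf.card_img, Nat.card_zpowers, hi2]
  set y : S := ⟨j, hjS⟩
  have hy2 : orderOf y = 2 := (Subgroup.orderOf_mk j hjS).trans hj2
  have hx2 : orderOf x = 2 := (Subgroup.orderOf_mk i hi).trans hi2
  -- no coset with value `1` is fixed by the whole centralizer
  have heven : ∀ C ∈ L, 2 ∣ cnt C y 1 1 := by
    intro C hC
    obtain ⟨g, hg, hgν⟩ := (hL C hC).2
    set U : Subgroup S := Subgroup.centralizer {y}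
    have hUy : ∀ u : U, (u : S) * y * (u : S)⁻¹ = y := fun u => by
      rw [Subgroup.mem_centralizer_singleton_iff.mp u.2, mul_inv_cancel_right]
    let M : SubMulAction U (S ⧸ C.R) :=
      { carrier := {c | y ^ 1 • c = c ∧ cval C (y ^ 1) c = 1}
        smul_mem' := by
          rintro u c ⟨h1, h2⟩
          show y ^ 1 • ((u : S) • c) = (u : S) • c ∧ cval C (y ^ 1) ((u : S) • c) = 1
          rw [pow_one] at h1 h2 ⊢
          have e1 := smul_conj_fix (u := (u : S)) h1
          have e2 := cval_smul (u := (u : S)) h1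
          rw [hUy] at e1 e2
          exact ⟨e1, e2.trans h2⟩ }
    obtain ⟨k, hk⟩ := IsPGroup.iff_card.mp (hS.to_subgroup U)
    have hU : IsPGroup 2 U := IsPGroup.of_card hk
    refine (Nat.modEq_zero_iff_dvd).mp ((hU.card_modEq_card_fixedPoints M).trans ?_)
    haveI : IsEmpty (MulAction.fixedPoints U M) := by
      refine ⟨fun ⟨⟨c, h1, h2⟩, hfix⟩ => ?_⟩
      obtain ⟨s, rfl⟩ := QuotientGroup.mk_surjective c
      have hmem : ∀ u : U, s⁻¹ * (u : S) * s ∈ C.R := fun u =>
        smul_mk_eq_iff.mp (congrArg Subtype.val (hfix u))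
      rw [pow_one] at h1 h2
      have hy' := smul_mk_eq_iff.mp h1
      rw [cval_eq hy'] at h2
      set K : Subgroup Ω := (U.map (MulAut.conj s⁻¹).toMonoidHom).map S.subtype
      have hKR : K ≤ C.R.map S.subtype := by
        rintro _ ⟨_, ⟨u, hu, rfl⟩, rfl⟩
        exact ⟨_, hmem ⟨u, hu⟩, by simp⟩
      have hgK := hg.mono hKR
      set j' : Ω := g ((s⁻¹ * y * s : S) : Ω)
      have hcyS : y ∈ U := Subgroup.mem_centralizer_singleton_iff.mpr rfl
      have hy'K : ((s⁻¹ * y * s : S) : Ω) ∈ K :=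
        ⟨(MulAut.conj s⁻¹).toMonoidHom y, ⟨y, hcyS, rfl⟩, by simp [mul_assoc]⟩
      have hj'S : j' ∈ S := hgK.mem_S hy'K
      -- the target lies in `T`
      have hj'T : j' ∈ T := by
        have := (hgν ⟨_, hy'⟩ hj'S).symm.trans h2
        exact Subgroup.mem_subgroupOf.mp ((QuotientGroup.eq_one_iff _).mp this)
      -- and is fully normalized
      have hcomp : IsMap F Q (fun w => g ((s : Ω)⁻¹ * w * (s : Ω))) := by
        have hc := isMap_conj (F := F) (g := (s : Ω)⁻¹) (hQj.le.trans (Subgroup.zpowers_le.mpr hjS))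
          (S.inv_mem s.2)
        refine (hc.comp hgK fun w hw => ?_).congr fun w _ => by simp
        rw [hQj] at hw
        obtain ⟨n, rfl⟩ := hw
        refine ⟨_, ⟨y ^ n, zpow_mem hcyS n, rfl⟩, ?_⟩
        simp [y]
      have hj'ne : img Q (fun w => g ((s : Ω)⁻¹ * w * (s : Ω))) = Subgroup.zpowers j' := by
        refine le_antisymm (IsMap.img_le_iff.mpr fun w hw => ?_) (Subgroup.zpowers_le.mpr ?_)
        · rw [hQj] at hw
          obtain ⟨n, rfl⟩ := hw
          refine ⟨n, ?_⟩
          show j' ^ n = g ((s : Ω)⁻¹ * j ^ n * (s : Ω))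
          induction n using Int.induction_on with
          | zero => simp [hgK.map_one]
          | succ n ih =>
            rw [zpow_add, ih, zpow_add, zpow_one, zpow_one, ← hgK.map_mul ?_ hy'K]
            · congr 1
              simp [y, mul_assoc]
            · exact ⟨_, ⟨y ^ (n : ℤ), zpow_mem hcyS _, rfl⟩, by simp [y]⟩
          | pred n ih =>
            rw [zpow_sub, ih, zpow_sub, zpow_one, zpow_one, ← hgK.map_inv hy'K, ← hgK.map_mul ?_ (K.inv_mem hy'K)]
            · congr 1
              simp [y, mul_assoc]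
            · exact ⟨_, ⟨y ^ (-(n : ℤ)), zpow_mem hcyS _, rfl⟩, by simp [y]⟩
        · rw [show j' = g ((s : Ω)⁻¹ * j * (s : Ω)) by simp [j', y]]
          exact IsMap.apply_mem_img (f := fun w => g ((s : Ω)⁻¹ * w * (s : Ω)))
            (hQj ▸ Subgroup.mem_zpowers j)
      have hrel : F.IsConj (Subgroup.zpowers i) (Subgroup.zpowers j') :=
        isConj_trans hconj (isConj_iff.mpr ⟨_, hcomp, hj'ne⟩)
      have helt : F.IsConjElt i j' := by
        have h3 := hf.comp hcomp fun w hw => hfi ▸ IsMap.apply_mem_img hw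
        obtain ⟨φ, hφ, e⟩ := h3
        exact ⟨φ, hφ, (e _).trans (by simp [j', y, j])⟩
      refine h j' helt ?_ hj'T
      refine ⟨Subgroup.zpowers_le.mpr hj'S, fun R hR => ?_⟩
      refine (hQ.2 R (isConj_trans (isConj_iff.mpr ⟨_, hcomp, hj'ne⟩) hR)).trans ?_
      have hsub : img K g ≤ normalizerIn S (Subgroup.zpowers j') := by
        refine IsMap.img_le_iff.mpr fun w hw => ⟨hgK.mem_S hw, ?_⟩
        obtain ⟨_, ⟨u, hu, rfl⟩, rfl⟩ := hw
        refine Subgroup.centralizer_le_normalizer _ (Subgroup.mem_centralizer_iff.mpr ?_)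
        rintro _ ⟨n, rfl⟩
        refine (Commute.zpow_left ?_ n).eq
        show j' * g _ = g _ * j'
        have hwK : S.subtype ((MulAut.conj s⁻¹).toMonoidHom u) ∈ K := ⟨_, ⟨u, hu, rfl⟩, rfl⟩
        rw [← hgK.map_mul hy'K hwK, ← hgK.map_mul hwK hy'K]
        congr 1
        simp only [MulEquiv.coe_toMonoidHom, Subgroup.coe_subtype, MulAut.conj_apply, inv_inv]
        rw [← Subgroup.coe_mul, ← Subgroup.coe_mul]
        congr 1
        have := Subgroup.mem_centralizer_singleton_iff.mp hu
        calc s⁻¹ * y * s * (s⁻¹ * u * s) = s⁻¹ * (y * u) * s := by group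
          _ = s⁻¹ * (u * y) * s := by rw [this]
          _ = _ := by group
      have hle : normalizerIn S Q ≤ U.map S.subtype := by
        intro w hw
        refine ⟨⟨w, hw.1⟩, Subgroup.mem_centralizer_singleton_iff.mpr (Subtype.ext ?_), rfl⟩
        have h1 := conj_mem_of_mem_normalizer hw.2 (hQj.ge (Subgroup.mem_zpowers j))
        rw [hQj] at h1
        obtain ⟨n, hn⟩ := h1
        have hn' : j ^ n = w * j * w⁻¹ := hn
        rcases Int.even_or_odd n with ⟨m, hm⟩ | ⟨m, hm⟩
        · rw [hm, ← two_mul, zpow_mul, zpow_ofNat, show j ^ 2 = 1 from hj2 ▸ pow_orderOf_eq_one j,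
            one_zpow, eq_comm, conj_eq_one_iff] at hn'
          rw [hn', orderOf_one] at hj2
          norm_num at hj2
        · rw [hm, zpow_add, zpow_one, zpow_mul, zpow_ofNat, show j ^ 2 = 1 from hj2 ▸ pow_orderOf_eq_one j,
            one_zpow, one_mul] at hn'
          exact (eq_mul_inv_iff_mul_eq.mp hn').symm
      haveI : Finite (U.map S.subtype) :=
        Finite.of_injective _ (Subgroup.inclusion_injective (Subgroup.map_subtype_le U))
      haveI : Finite (normalizerIn S (Subgroup.zpowers j')) :=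
        Finite.of_injective _ (Subgroup.inclusion_injective inf_le_left)
      calc Nat.card (normalizerIn S Q) ≤ Nat.card (U.map S.subtype) := Subgroup.card_le_of_le hle
        _ = Nat.card U := Subgroup.card_map_of_injective S.subtype_injective
        _ = Nat.card K := by
            rw [Subgroup.card_map_of_injective S.subtype_injective,
              Subgroup.card_map_of_injective (MulAut.conj s⁻¹).injective]
        _ = Nat.card (img K g) := hgK.card_img.symm
        _ ≤ _ := Subgroup.card_le_of_le hsub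
    rw [Nat.card_of_isEmpty]
  -- the marks of the two conjugates agree
  have hmq : ∀ z : S, orderOf z = 2 → (L.map fun C => cnt C z 1 1).sum =
      mq L ⟨Subgroup.zpowers (z : Ω), Subgroup.zpowers_le.mpr z.2, (1 : _ →* S ⧸ N)⟩ := fun z hz => by
    rw [mq, mark]
    exact congrArg List.sum (List.map_congr_left fun C hC => hcnt C hC z hz)
  have heq : (L.map fun C => cnt C x 1 1).sum = (L.map fun C => cnt C y 1 1).sum := by
    rw [hmq x hx2, hmq y hy2]
    refine hst _ _ ⟨bot_le, fun w hw => ?_⟩ (Nat.zero_le _) ⟨f, hf, hfi.trans hQj, fun _ _ _ => rfl⟩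
    rw [show w = 1 from Subtype.ext (Subgroup.mem_bot.mp hw), map_one, map_one]
    exact (map_one μ₀).symm
  have hsum2 : ∀ (l : List (Comp S (S ⧸ N))) (φ : Comp S (S ⧸ N) → ℕ), (∀ C ∈ l, 2 ∣ φ C) →
      2 ∣ (l.map φ).sum := fun l φ hl => List.dvd_sum fun t ht => by
    obtain ⟨C, hC, rfl⟩ := List.mem_map.mp ht
    exact hl C hC
  have hone : 2 ∣ (L.map fun C => cnt C x 1 1).sum := heq ▸ hsum2 _ _ heven
  -- the value of the transfer
  obtain ⟨a, ha⟩ : ∃ a : S ⧸ N, a ≠ 1 := by
    have : Nontrivial (S ⧸ N) := Finite.one_lt_card_iff_nontrivial.mp (hcard ▸ one_lt_two)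
    exact exists_ne 1
  have hA : ∀ b : S ⧸ N, b = 1 ∨ b = a := fun b => by
    obtain ⟨u, v, huv, huniv⟩ := Nat.card_eq_two_iff.mp hcard
    have hm : ∀ t : S ⧸ N, t = u ∨ t = v := fun t => by
      have := huniv ▸ Set.mem_univ t
      simpa using this
    grind [hm b, hm 1, hm a]
  have hperiod : ∀ (C : Comp S (S ⧸ N)) (c : S ⧸ C.R), period C x c = 1 ↔ x • c = c := fun C c => by
    rw [period, Function.minimalPeriod_eq_one_iff_isFixedPt]
    rfl
  have hval : ∀ C ∈ L, MonoidHom.transfer C.ν x = a ^ cnt C x 1 a := by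
    intro C _
    rw [transfer_eq_prod x (n := 2) hx2.le, Finset.prod_eq_single (1, a)]
    · show a ^ orbCount C x 1 a = _
      rw [← one_mul (orbCount C x 1 a), ← pointCount_eq]
      congr 1
      exact Nat.card_congr (Equiv.subtypeEquivRight fun c => by rw [hperiod, pow_one])
    · rintro ⟨ℓ, b⟩ hb hne
      obtain ⟨hℓ, -⟩ := Finset.mem_product.mp hb
      rw [Finset.mem_range] at hℓ
      rcases hA b with rfl | rfl
      · exact one_pow _
      · have : IsEmpty {q : orbitRel.Quotient (Subgroup.zpowers x) (S ⧸ C.R) //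
            period C x q.out = ℓ ∧ cval C (x ^ ℓ) q.out = b} := by
          refine ⟨fun ⟨q, hq, hqv⟩ => ?_⟩
          have h0 : ℓ = 0 ∨ ℓ = 2 := by
            rcases (show ℓ = 0 ∨ ℓ = 1 ∨ ℓ = 2 by omega) with e | e | e
            · exact Or.inl e
            · exact absurd (show (ℓ, b) = ((1 : ℕ), b) by rw [e]) hne
            · exact Or.inr e
          have hx1 : x ^ ℓ = 1 := by
            rcases h0 with rfl | rfl
            · exact pow_zero x
            · exact hx2 ▸ pow_orderOf_eq_one x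
          rw [hx1, cval_one] at hqv
          exact ha hqv.symm
        show b ^ orbCount C x ℓ b = 1
        rw [show orbCount C x ℓ b = 0 from Nat.card_of_isEmpty, pow_zero]
    · intro hn
      exact absurd (Finset.mem_product.mpr ⟨Finset.mem_range.mpr (by norm_num), Finset.mem_univ _⟩) hn
  -- parity of the fixed cosets
  have hsplit : ∀ C ∈ L, C.R.index ≡ cnt C x 1 1 + cnt C x 1 a [MOD 2] := by
    intro C _
    have hp : IsPGroup 2 (Subgroup.zpowers x) := hS.to_subgroup _
    refine (hp.card_modEq_card_fixedPoints (S ⧸ C.R)).trans (congrArg (· % 2) ?_)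
    have hfixed : ∀ c : S ⧸ C.R, c ∈ MulAction.fixedPoints (Subgroup.zpowers x) (S ⧸ C.R) ↔ x • c = c :=
      fun c => ⟨fun hc => hc ⟨x, Subgroup.mem_zpowers x⟩, fun hc w => by
        show (w : S) • c = c
        exact (Subgroup.zpowers_le.mpr (MulAction.mem_stabilizer_iff.mpr hc) :
          Subgroup.zpowers x ≤ stabilizer S c) w.2⟩
    rw [cnt, cnt, ← Nat.card_sum]
    refine Nat.card_congr (((Equiv.subtypeEquivRight fun c => ?_)).trans
      (subtypeOrEquiv _ _ ?_))
    · rw [hfixed, pow_one]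
      refine ⟨fun hc => (hA (cval C x c)).imp (fun e => ⟨hc, e⟩) fun e => ⟨hc, e⟩, fun hc => ?_⟩
      rcases hc with hc | hc <;> exact hc.1
    · rw [Pi.disjoint_iff]
      intro c
      rw [Prop.disjoint_iff]
      rintro ⟨⟨_, h1⟩, _, h2⟩
      exact ha (h2.symm.trans h1)
  have hmod : (L.map fun C => C.R.index).sum % 2 =
      ((L.map fun C => cnt C x 1 1).sum + (L.map fun C => cnt C x 1 a).sum) % 2 := by
    clear hodd heq hone hst hτ hfoc hs τ hmq
    induction L with
    | nil => rfl
    | cons C L ih =>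
      have h1 : C.R.index % 2 = (cnt C x 1 1 + cnt C x 1 a) % 2 := hsplit C (List.mem_cons_self ..)
      have h2 := ih (fun D hD => hL D (List.mem_cons_of_mem _ hD)) (fun D hD => hcnt D (List.mem_cons_of_mem _ hD))
        (fun D hD => heven D (List.mem_cons_of_mem _ hD)) (fun D hD => hval D (List.mem_cons_of_mem _ hD))
        (fun D hD => hsplit D (List.mem_cons_of_mem _ hD))
      simp only [List.map_cons, List.sum_cons]
      omega
  have hτx : (L.map fun C => MonoidHom.transfer C.ν x).prod = a ^ (L.map fun C => cnt C x 1 a).sum := by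
    clear hodd heq hone hst hτ hfoc hs τ hmq hmod
    induction L with
    | nil => simp
    | cons C L ih =>
      simp only [List.map_cons, List.prod_cons, List.sum_cons, pow_add]
      rw [hval C (List.mem_cons_self ..), ih (fun D hD => hL D (List.mem_cons_of_mem _ hD))
        (fun D hD => hcnt D (List.mem_cons_of_mem _ hD))
        (fun D hD => heven D (List.mem_cons_of_mem _ hD)) (fun D hD => hval D (List.mem_cons_of_mem _ hD))
        (fun D hD => hsplit D (List.mem_cons_of_mem _ hD))]
  have hbad : a ^ (L.map fun C => cnt C x 1 a).sum = 1 := hτx.symm.trans hs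
  obtain ⟨m, hm⟩ : ∃ m, (L.map fun C => cnt C x 1 a).sum = 2 * m + 1 :=
    ⟨(L.map fun C => cnt C x 1 a).sum / 2, by omega⟩
  rw [hm, pow_succ, pow_mul, show a ^ 2 = 1 from hcard ▸ pow_card_eq_one', one_pow, one_mul] at hbad
  exact ha hbad

end Cfsg.Lib.Fusion.Transfer
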